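import Cfsg.Agent.Lib.Frobenius.Basic
import Cfsg.Agent.Lib.Characters.Induction
import Cfsg.Agent.Lib.Characters.Generalized
import Cfsg.Agent.Lib.Characters.Values

/-!
# Frobenius' theorem: the Frobenius kernel is a normal complement
-/

set_option autoImplicit false
set_option linter.style.haveILetI false

namespace CfsgLib.Frobenius

open scoped Pointwise ComplexConjugate
open CfsgLib.Characters CfsgLib.Induction

universe u

/-- Induction from a Frobenius complement extends class functions vanishing at `1`. -/
theorem indFun_complement_apply {G : Type u} [Group G] [Fintype G] {H : Subgroup G}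
    (hH : Cfsg.IsFrobeniusComplement H)
    {θ : H → ℂ} (hθ : Cfsg.IsClassFunction H θ) (hθ1 : θ 1 = 0) (h : H) :
    Cfsg.indFun H θ h = θ h := by
  classical
  by_cases h1 : h = 1
  · subst h1
    rw [Subgroup.coe_one, indFun_one_apply, hθ1, mul_zero]
  have hne : (h : G) ≠ 1 := fun e => h1 (Subtype.ext e)
  have hterm : ∀ x : G, Cfsg.extendByZero H θ (x⁻¹ * (h : G) * x) = if x ∈ H then θ h else 0 := by
    intro x
    split_ifs with hx
    · have := extendByZero_conj H hθ (⟨x, hx⟩⁻¹ : H) (h : G)
      rw [show ((⟨x, hx⟩⁻¹ : H) : G) = x⁻¹ from rfl, inv_inv] at this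
      rw [this, extendByZero_mem H θ h.2]
    · exact extendByZero_notMem H θ fun hy => hx (mem_of_conj_mem hH h.2 hne hy)
  rw [indFun_apply, Finset.sum_congr rfl fun x _ => hterm x, ← Finset.sum_filter, Finset.sum_const,
    nsmul_eq_mul]
  have hc : (Finset.univ.filter fun x => x ∈ H).card = Nat.card H := by
    rw [Nat.card_eq_fintype_card, Fintype.card_subtype]
  rw [hc, inv_mul_cancel_left₀ natCard_ne_zero']

/-- Every irreducible character of a Frobenius complement extends to the whole group, being
constant on the kernel. -/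
theorem exists_extension_irr {G : Type u} [Group G] [Fintype G] {H : Subgroup G}
    (hH : Cfsg.IsFrobeniusComplement H) (φ : Cfsg.IrrCharacter H) :
    ∃ χ : G → ℂ, Cfsg.IsIrrCharacter G χ ∧ (∀ h : H, χ h = (φ : H → ℂ) h) ∧
      ∀ x ∈ Cfsg.frobeniusKernel H, χ x = χ 1 := by
  classical
  by_cases htriv : (φ : H → ℂ) = fun _ => 1
  · exact ⟨fun _ => 1, isIrrCharacter_one, fun h => by rw [htriv], fun x _ => rfl⟩
  haveI := Fintype.ofFinite H
  obtain ⟨d, hd0, hd⟩ := irr_exists_degree φ.2
  let one : H → ℂ := fun _ => 1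
  let oneG : G → ℂ := fun _ => 1
  let θ : H → ℂ := (φ : H → ℂ) - (d : ℂ) • one
  have hone : Cfsg.IsClassFunction H one := fun _ _ => rfl
  have honeG : Cfsg.IsClassFunction G oneG := fun _ _ => rfl
  have hθcf : Cfsg.IsClassFunction H θ :=
    isClassFunction_sub (irr_isClassFunction φ) (isClassFunction_smul hone _)
  have hθ1 : θ 1 = 0 := by simp [θ, one, hd]
  have hθH := indFun_complement_apply hH hθcf hθ1
  let I := Cfsg.indFun H θ
  have hI : I = Cfsg.indFun H (φ : H → ℂ) - (d : ℂ) • Cfsg.indFun H one := by
    simp only [I, θ]; rw [indFun_sub, indFun_smul]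
  have hIcf : Cfsg.IsClassFunction G I := isClassFunction_indFun H θ
  let χ : G → ℂ := I + (d : ℂ) • oneG
  have hgen : Cfsg.IsGeneralizedCharacter G χ := by
    refine isGeneralizedCharacter_add ?_ (isGeneralizedCharacter_natCast_smul
      (isGeneralizedCharacter_of_isCharacter (isCharacter_of_irr isIrrCharacter_one)) d)
    rw [hI]
    exact isGeneralizedCharacter_sub
      (isGeneralizedCharacter_of_isCharacter (isCharacter_indFun H (irr_isCharacter φ)))
      (isGeneralizedCharacter_natCast_smul (isGeneralizedCharacter_of_isCharacter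
        (isCharacter_indFun H (isCharacter_of_irr isIrrCharacter_one))) d)
  have hφone : Cfsg.classInner (φ : H → ℂ) one = 0 :=
    classInner_irr_ne φ.2 isIrrCharacter_one htriv
  have honeφ : Cfsg.classInner one (φ : H → ℂ) = 0 :=
    classInner_irr_ne isIrrCharacter_one φ.2 fun e => htriv e.symm
  have hoo : Cfsg.classInner one one = 1 := classInner_irr_self isIrrCharacter_one
  have hθone : Cfsg.classInner θ one = -(d : ℂ) := by
    simp only [θ]
    rw [classInner_sub_left, classInner_smul_left, hφone, hoo]; simp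
  have hθθ : Cfsg.classInner θ θ = 1 + (d : ℂ) * d := by
    simp only [θ]
    rw [classInner_sub_left, classInner_smul_left, classInner_sub_right, classInner_sub_right,
      classInner_smul_right, classInner_smul_right, hφone, honeφ, hoo,
      classInner_irr_self φ.2, Complex.conj_natCast]
    ring
  have hII : Cfsg.classInner I I = 1 + (d : ℂ) * d := by
    rw [← hθθ]
    simp only [I]
    rw [classInner_indFun H θ hIcf]
    exact congrArg (Cfsg.classInner θ) (funext hθH)
  have hIone : Cfsg.classInner I oneG = -(d : ℂ) := by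
    rw [← hθone]; exact classInner_indFun H θ honeG
  have honeI : Cfsg.classInner oneG I = -(d : ℂ) := by
    rw [classInner_swap, hIone]; simp
  have hnorm : Cfsg.classInner χ χ = 1 := by
    simp only [χ]
    rw [classInner_add_left, classInner_add_right, classInner_add_right, classInner_smul_left,
      classInner_smul_right, classInner_smul_left, classInner_smul_right, hII, hIone, honeI,
      classInner_irr_self (isIrrCharacter_one (G := G)), Complex.conj_natCast]
    ring
  have hχ1 : χ 1 = d := by
    simp only [χ, I, oneG, Pi.add_apply, Pi.smul_apply, indFun_one_apply, hθ1, mul_zero, zero_add,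
      smul_eq_mul, mul_one]
  refine ⟨χ, isIrrCharacter_of_generalized_norm_one hgen hnorm
    (by rw [hχ1, Complex.natCast_re]; exact Nat.cast_nonneg d), fun h => ?_, fun x hx => ?_⟩
  · show I h + (d : ℂ) * 1 = _
    simp only [I]
    rw [hθH]
    simp [θ, one]
  · rcases hx with rfl | hx
    · rfl
    rw [hχ1]
    show I x + (d : ℂ) * 1 = _
    simp only [I]
    rw [indFun_eq_zero_of_forall H fun g hg => hx g (mem_conj_smul_iff.2 hg), zero_add, mul_one]

/-- Frobenius' theorem. -/
theorem exists_normal_kernel {G : Type u} [Group G] [Finite G] {H : Subgroup G}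
    (hH : Cfsg.IsFrobeniusComplement H) :
    ∃ N : Subgroup G, (N : Set G) = Cfsg.frobeniusKernel H ∧ N.Normal ∧ N.IsComplement' H := by
  classical
  haveI := Fintype.ofFinite G
  choose χ hχirr hχH hχK using exists_extension_irr hH
  choose n ρ _ hρ using hχirr
  let N : Subgroup G := ⨅ φ, (ρ φ).ker
  have hNn : N.Normal := Subgroup.normal_iInf_normal fun φ => MonoidHom.normal_ker _
  have hval : ∀ φ g, g ∈ (ρ φ).ker ↔ χ φ g = χ φ 1 := by
    intro φ g
    rw [MonoidHom.mem_ker, ← hρ φ, Representation.char_one]
    exact (char_eq_degree_iff (ρ φ) g).symm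
  have hKN : Cfsg.frobeniusKernel H ⊆ N := fun x hx =>
    Subgroup.mem_iInf.2 fun φ => (hval φ x).2 (hχK φ x hx)
  have hNH : N ⊓ H = ⊥ := by
    rw [eq_bot_iff]
    rintro x ⟨hxN, hxH⟩
    have hc : IsConj (⟨x, hxH⟩ : H) 1 := (isConj_iff_irr _ _).2 fun φ => by
      rw [← hχH φ, ← hχH φ]
      exact (hval φ x).1 (Subgroup.mem_iInf.1 hxN φ)
    exact congrArg Subtype.val (isConj_one_left.1 hc)
  have hcard : Nat.card N ≤ H.index := by
    have hinj : Function.Injective fun a : N => (QuotientGroup.mk (a : G) : G ⧸ H) := by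
      intro a b hab
      have h2 : (a : G)⁻¹ * b ∈ N ⊓ H := ⟨N.mul_mem (N.inv_mem a.2) b.2, QuotientGroup.eq.1 hab⟩
      rw [hNH, Subgroup.mem_bot, inv_mul_eq_one] at h2
      exact Subtype.ext h2
    exact Nat.card_le_card_of_injective _ hinj
  have hset : (N : Set G) = Cfsg.frobeniusKernel H := by
    refine (Set.eq_of_subset_of_ncard_le hKN ?_ (Set.toFinite _)).symm
    rw [ncard_frobeniusKernel hH]
    exact (Nat.card_coe_set_eq (N : Set G)).symm.trans_le hcard
  refine ⟨N, hset, hNn, Subgroup.isComplement'_of_card_mul_and_disjoint ?_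
    (disjoint_iff.2 hNH)⟩
  have h3 : Nat.card N = H.index := by
    rw [← ncard_frobeniusKernel hH, ← hset]; exact Nat.card_coe_set_eq _
  rw [h3, Subgroup.index_mul_card]

end CfsgLib.Frobenius
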