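import Mathlib.GroupTheory.Sylow
import Mathlib.GroupTheory.Index
import Mathlib.GroupTheory.Complement
import Mathlib.GroupTheory.GroupAction.Quotient
import Cfsg.Prelude.Def_Solvable

/-!
# Frobenius complements: the elementary theory

Everything here avoids Frobenius' theorem.  Results that need the kernel to be a subgroup take a
normal complement `K` as a hypothesis.
-/

set_option autoImplicit false

open scoped Pointwise

namespace CfsgLib.Frobenius

open Subgroup MulAction

variable {G : Type*} [Group G] {H : Subgroup G}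

theorem mem_conj_smul_iff {g x : G} {H : Subgroup G} :
    x ∈ MulAut.conj g • H ↔ g⁻¹ * x * g ∈ H := by
  rw [Subgroup.mem_pointwise_smul_iff_inv_smul_mem]
  simp [MulAut.smul_def, mul_assoc]

/-- In the action on `G ⧸ H`, the point `gH` is fixed by `x` iff `x ∈ gHg⁻¹`. -/
theorem smul_mk_eq_self_iff {g x : G} {H : Subgroup G} :
    x • (QuotientGroup.mk g : G ⧸ H) = QuotientGroup.mk g ↔ g⁻¹ * x * g ∈ H := by
  rw [MulAction.Quotient.smul_mk, smul_eq_mul, eq_comm, QuotientGroup.eq]
  simp [mul_assoc]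

theorem eq_one_of_mem_of_conj_mem (hH : Cfsg.IsFrobeniusComplement H) {g x : G} (hg : g ∉ H)
    (hx : x ∈ H) (hxg : g⁻¹ * x * g ∈ H) : x = 1 := by
  have h1 : x ∈ H ⊓ MulAut.conj g • H := ⟨hx, mem_conj_smul_iff.2 hxg⟩
  rw [hH.2.2 g hg] at h1
  simpa using h1

theorem mem_of_conj_mem (hH : Cfsg.IsFrobeniusComplement H) {g x : G} (hx : x ∈ H) (hx1 : x ≠ 1)
    (hxg : g⁻¹ * x * g ∈ H) : g ∈ H :=
  by_contra fun hg => hx1 (eq_one_of_mem_of_conj_mem hH hg hx hxg)

/-- A nontrivial element lies in at most one conjugate of a Frobenius complement. -/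
theorem coset_unique (hH : Cfsg.IsFrobeniusComplement H) {g g' x : G} (hx1 : x ≠ 1)
    (hg : g⁻¹ * x * g ∈ H) (hg' : g'⁻¹ * x * g' ∈ H) :
    (QuotientGroup.mk g : G ⧸ H) = QuotientGroup.mk g' := by
  rw [QuotientGroup.eq]
  refine mem_of_conj_mem hH hg (fun h => hx1 ?_) ?_
  · have : x = g * (g⁻¹ * x * g) * g⁻¹ := by group
    rw [this, h]; group
  · convert hg' using 1; group

theorem fixed_point_unique (hH : Cfsg.IsFrobeniusComplement H) {x : G} (hx1 : x ≠ 1)
    {q q' : G ⧸ H} (hq : x • q = q) (hq' : x • q' = q') : q = q' := by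
  induction q using QuotientGroup.induction_on with | H g => ?_
  induction q' using QuotientGroup.induction_on with | H g' => ?_
  exact coset_unique hH hx1 (smul_mk_eq_self_iff.1 hq) (smul_mk_eq_self_iff.1 hq')

theorem conj_smul_inf_eq_bot (hH : Cfsg.IsFrobeniusComplement H) {x y : G}
    (hxy : x⁻¹ * y ∉ H) : MulAut.conj x • H ⊓ MulAut.conj y • H = ⊥ := by
  rw [eq_bot_iff]
  intro z hz
  by_contra hz1
  exact hxy (QuotientGroup.eq.1 (coset_unique hH (by simpa using hz1)
    (mem_conj_smul_iff.1 hz.1) (mem_conj_smul_iff.1 hz.2)))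

theorem centralizer_le (hH : Cfsg.IsFrobeniusComplement H) {x : G} (hx : x ∈ H) (hx1 : x ≠ 1) :
    Subgroup.centralizer ({x} : Set G) ≤ H := by
  intro g hg
  refine mem_of_conj_mem hH hx hx1 ?_
  have h : x * g = g * x := Subgroup.mem_centralizer_iff.1 hg x rfl
  rw [mul_assoc, h]; simpa using hx

theorem normalizer_eq (hH : Cfsg.IsFrobeniusComplement H) :
    Subgroup.normalizer (H : Set G) = H := by
  refine le_antisymm (fun g hg => ?_) Subgroup.le_normalizer
  obtain ⟨x, hx, hx1⟩ := (Subgroup.ne_bot_iff_exists_ne_one.1 hH.1) |> fun ⟨⟨x, hx⟩, hx1⟩ =>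
    (⟨x, hx, fun h => hx1 (Subtype.ext h)⟩ : ∃ x ∈ H, x ≠ 1)
  exact mem_of_conj_mem hH hx hx1 ((Subgroup.mem_normalizer_iff''.1 hg x).1 hx)

theorem conj_isFrobeniusComplement (hH : Cfsg.IsFrobeniusComplement H) (a : G) :
    Cfsg.IsFrobeniusComplement (MulAut.conj a • H) := by
  refine ⟨?_, ?_, fun g hg => ?_⟩
  · intro h
    exact hH.1 (by simpa using congrArg ((MulAut.conj a)⁻¹ • ·) h)
  · intro h
    refine hH.2.1 (eq_top_iff.2 fun x _ => ?_)
    have hx : a * x * a⁻¹ ∈ MulAut.conj a • H := h ▸ Subgroup.mem_top _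
    simpa [mem_conj_smul_iff, mul_assoc] using hx
  · rw [smul_smul, ← map_mul]
    refine conj_smul_inf_eq_bot hH ?_
    rw [mem_conj_smul_iff] at hg
    simpa [mul_assoc] using hg

/-- A subgroup containing the centralizer of each of its nontrivial elements is a Hall subgroup. -/
theorem coprime_card_index_of_centralizer_le [Finite G] (H : Subgroup G)
    (h : ∀ x ∈ H, x ≠ 1 → Subgroup.centralizer ({x} : Set G) ≤ H) :
    (Nat.card H).Coprime H.index := by
  refine Nat.coprime_of_dvd fun p hp hpH hpI => ?_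
  haveI := Fact.mk hp
  obtain ⟨⟨x, hxH⟩, hx⟩ := exists_prime_orderOf_dvd_card' p hpH
  have hxp : orderOf x = p := by simpa using hx
  obtain ⟨P⟩ : Nonempty (Sylow p H) := inferInstance
  obtain ⟨R, hR⟩ := (P.isPGroup'.map H.subtype).exists_le_sylow
  have hPne : (P : Subgroup H) ≠ ⊥ := P.ne_bot_of_dvd_card hpH
  have hRne : (R : Subgroup G) ≠ ⊥ := by
    intro hb
    rw [hb, le_bot_iff, Subgroup.map_eq_bot_iff_of_injective _ H.subtype_injective] at hR
    exact hPne hR
  haveI : Nontrivial (R : Subgroup G) := (Subgroup.nontrivial_iff_ne_bot _).2 hRne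
  haveI : Nontrivial (Subgroup.center (R : Subgroup G)) := R.isPGroup'.center_nontrivial
  obtain ⟨⟨z, hz⟩, hz1⟩ := exists_ne (1 : Subgroup.center (R : Subgroup G))
  have hz1' : (z : G) ≠ 1 := by simpa using hz1
  obtain ⟨⟨⟨u, huH⟩, huP⟩, hu1⟩ := Subgroup.ne_bot_iff_exists_ne_one.1 hPne
  have hu1' : u ≠ 1 := fun hh => hu1 (by ext; exact hh)
  have huR : u ∈ (R : Subgroup G) := hR ⟨⟨u, huH⟩, huP, rfl⟩
  have hzH : (z : G) ∈ H := by
    refine h u huH hu1' (Subgroup.mem_centralizer_iff.2 ?_)
    rintro _ rfl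
    exact congrArg Subtype.val (Subgroup.mem_center_iff.1 hz ⟨_, huR⟩)
  have hRH : (R : Subgroup G) ≤ H := by
    intro r hr
    refine h z hzH hz1' (Subgroup.mem_centralizer_iff.2 ?_)
    rintro _ rfl
    exact (congrArg Subtype.val (Subgroup.mem_center_iff.1 hz ⟨r, hr⟩)).symm
  exact R.not_dvd_index (hpI.trans (Subgroup.index_dvd_of_le hRH))

theorem coprime_card_index [Finite G] (hH : Cfsg.IsFrobeniusComplement H) :
    (Nat.card H).Coprime H.index :=
  coprime_card_index_of_centralizer_le H fun _ hx hx1 => centralizer_le hH hx hx1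

/-- An element of prime order dividing `|H|` lies in a conjugate of `H` (here `H` is any Hall
subgroup). -/
theorem exists_conj_mem_of_prime [Finite G] {H : Subgroup G}
    (hHall : (Nat.card H).Coprime H.index) {p : ℕ} (hp : p.Prime) (hpH : p ∣ Nat.card H)
    {x : G} (hx : orderOf x = p) : ∃ g : G, g⁻¹ * x * g ∈ H := by
  haveI := Fact.mk hp
  have hPG : IsPGroup p (Subgroup.zpowers x) :=
    IsPGroup.of_card (n := 1) (by rw [Nat.card_zpowers, hx, pow_one])
  -- the fixed points of `⟨x⟩` on `G ⧸ H`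
  have hcard := hPG.card_modEq_card_fixedPoints (G ⧸ H)
  have hnd : ¬ p ∣ H.index := (hp.coprime_iff_not_dvd).1 (hHall.coprime_dvd_left hpH)
  have : Nonempty (MulAction.fixedPoints (Subgroup.zpowers x) (G ⧸ H)) := by
    by_contra hne
    rw [not_nonempty_iff] at hne
    rw [Nat.card_of_isEmpty (α := MulAction.fixedPoints (Subgroup.zpowers x) (G ⧸ H))] at hcard
    exact hnd (Nat.modEq_zero_iff_dvd.1 hcard)
  obtain ⟨⟨q, hq⟩⟩ := this
  induction q using QuotientGroup.induction_on with | H g => ?_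
  exact ⟨g, smul_mk_eq_self_iff.1 (hq ⟨x, Subgroup.mem_zpowers x⟩)⟩

/-- An element either lies in a conjugate of `H` or has order prime to `|H|`. -/
theorem exists_conj_mem_of_not_coprime [Finite G] (hH : Cfsg.IsFrobeniusComplement H) {x : G}
    (hx : ¬ (orderOf x).Coprime (Nat.card H)) : ∃ g : G, g⁻¹ * x * g ∈ H := by
  obtain ⟨p, hp, hpx, hpH⟩ := Nat.Prime.not_coprime_iff_dvd.1 hx
  obtain ⟨g, hg⟩ := exists_conj_mem_of_prime (coprime_card_index hH) hp hpH
    (orderOf_pow_orderOf_div (orderOf_pos x).ne' hpx)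
  refine ⟨g, centralizer_le hH hg ?_ (Subgroup.mem_centralizer_iff.2 ?_)⟩
  · intro h1
    have h2 : x ^ (orderOf x / p) = 1 := by
      calc x ^ (orderOf x / p) = g * (g⁻¹ * x ^ (orderOf x / p) * g) * g⁻¹ := by group
        _ = 1 := by rw [h1]; group
    have h3 := orderOf_pow_orderOf_div (orderOf_pos x).ne' hpx
    rw [h2, orderOf_one] at h3
    exact hp.one_lt.ne h3
  · rintro _ rfl
    have hc : Commute (x ^ (orderOf x / p)) x := (Commute.refl x).pow_left _
    calc g⁻¹ * x ^ (orderOf x / p) * g * (g⁻¹ * x * g)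
        = g⁻¹ * (x ^ (orderOf x / p) * x) * g := by group
      _ = g⁻¹ * (x * x ^ (orderOf x / p)) * g := by rw [hc.eq]
      _ = _ := by group

theorem orderOf_dvd_card_of_conj_mem {H : Subgroup G} {g x : G} (h : g⁻¹ * x * g ∈ H) :
    orderOf x ∣ Nat.card H := by
  have h1 := Subgroup.orderOf_dvd_natCard H h
  have h2 : orderOf (g⁻¹ * x * g) = orderOf x := by
    simpa [MulAut.conj_apply, mul_assoc] using (MulAut.conj g⁻¹).orderOf_eq x
  rwa [h2] at h1

/-- The Frobenius kernel is the set of elements whose order is prime to `|H|`. -/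
theorem mem_frobeniusKernel_iff_coprime [Finite G] (hH : Cfsg.IsFrobeniusComplement H) {x : G} :
    x ∈ Cfsg.frobeniusKernel H ↔ (orderOf x).Coprime (Nat.card H) := by
  constructor
  · rintro (rfl | hx)
    · simp
    · by_contra hc
      obtain ⟨g, hg⟩ := exists_conj_mem_of_not_coprime hH hc
      exact hx g (mem_conj_smul_iff.2 hg)
  · intro hc
    by_cases hx1 : x = 1
    · exact Or.inl hx1
    refine Or.inr fun g hg => hx1 ?_
    have h1 := orderOf_dvd_card_of_conj_mem (mem_conj_smul_iff.1 hg)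
    exact orderOf_eq_one_iff.1 (Nat.eq_one_of_dvd_coprimes hc dvd_rfl h1)

/-- The Frobenius kernel is the set of elements whose order divides the index of `H`. -/
theorem mem_frobeniusKernel_iff_dvd_index [Finite G] (hH : Cfsg.IsFrobeniusComplement H) {x : G} :
    x ∈ Cfsg.frobeniusKernel H ↔ orderOf x ∣ H.index := by
  rw [mem_frobeniusKernel_iff_coprime hH]
  refine ⟨fun hc => hc.dvd_of_dvd_mul_left ?_,
    fun hd => Nat.Coprime.coprime_dvd_left hd (coprime_card_index hH).symm⟩
  rw [Subgroup.card_mul_index]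
  exact orderOf_dvd_natCard x

/-- Every element has order dividing `|H|` or order dividing the index of `H`. -/
theorem orderOf_dvd_or_dvd [Finite G] (hH : Cfsg.IsFrobeniusComplement H) (x : G) :
    orderOf x ∣ Nat.card H ∨ orderOf x ∣ H.index := by
  by_cases hc : (orderOf x).Coprime (Nat.card H)
  · exact Or.inr ((mem_frobeniusKernel_iff_dvd_index hH).1
      ((mem_frobeniusKernel_iff_coprime hH).2 hc))
  · obtain ⟨g, hg⟩ := exists_conj_mem_of_not_coprime hH hc
    exact Or.inl (orderOf_dvd_card_of_conj_mem hg)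

theorem exists_conj_mem_of_orderOf_dvd [Finite G] (hH : Cfsg.IsFrobeniusComplement H) {x : G}
    (hx : orderOf x ∣ Nat.card H) : ∃ g : G, g⁻¹ * x * g ∈ H := by
  by_cases hx1 : x = 1
  · exact ⟨1, by simp [hx1]⟩
  · refine exists_conj_mem_of_not_coprime hH fun hc => hx1 ?_
    exact orderOf_eq_one_iff.1 (Nat.eq_one_of_dvd_coprimes hc dvd_rfl hx)

/-- If every nontrivial element of a finite group fixes exactly one point, some point is fixed by
the whole group (provided the set is not empty). -/
theorem exists_fixed_point_of_unique_fixed {L : Type*} [Group L] [Finite L] {Ω : Type*}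
    [MulAction L Ω] [Finite Ω] [Nonempty Ω]
    (h : ∀ l : L, l ≠ 1 → ∃! ω : Ω, l • ω = ω) : ∃ ω : Ω, ∀ l : L, l • ω = ω := by
  classical
  rcases subsingleton_or_nontrivial L with hs | hs
  · exact ⟨Classical.arbitrary Ω, fun l => by rw [Subsingleton.elim l 1, one_smul]⟩
  by_contra hno
  push Not at hno
  haveI := Fintype.ofFinite L
  haveI := Fintype.ofFinite Ω
  -- `F ω` : the nontrivial elements fixing `ω`
  let F : Ω → Finset L := fun ω => Finset.univ.filter fun l => l ≠ 1 ∧ l • ω = ω
  have hF : ∀ ω, (F ω).card + 1 = Nat.card (MulAction.stabilizer L ω) := by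
    intro ω
    have : insert 1 (F ω) = Finset.univ.filter fun l : L => l ∈ MulAction.stabilizer L ω := by
      ext l; by_cases hl : l = 1 <;> simp [F, hl]
    rw [← Finset.card_insert_of_notMem (by simp [F] : (1 : L) ∉ F ω), this,
      Nat.card_eq_fintype_card, Fintype.card_subtype]
  -- the elements attached to an orbit
  let S : Ω → Finset L := fun a => ((MulAction.orbit L a).toFinset).biUnion F
  have hS : ∀ a, (S a).card + Nat.card (MulAction.orbit L a) = Fintype.card L := by
    intro a
    have hdisj : ∀ ω₁ ∈ (MulAction.orbit L a).toFinset, ∀ ω₂ ∈ (MulAction.orbit L a).toFinset,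
        ω₁ ≠ ω₂ → Disjoint (F ω₁) (F ω₂) := by
      intro ω₁ _ ω₂ _ hne
      rw [Finset.disjoint_left]
      intro l hl1 hl2
      simp only [F, Finset.mem_filter] at hl1 hl2
      exact hne ((h l hl1.2.1).unique hl1.2.2 hl2.2.2)
    have hconst : ∀ ω ∈ (MulAction.orbit L a).toFinset, (F ω).card = (F a).card := by
      intro ω hω
      rw [Set.mem_toFinset] at hω
      obtain ⟨g, rfl⟩ := hω
      refine (Finset.card_bij (fun l _ => g * l * g⁻¹) ?_ ?_ ?_).symm
      · intro l hl
        simp only [F, Finset.mem_filter, Finset.mem_univ, true_and] at hl ⊢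
        exact ⟨by simpa using hl.1, by simp [mul_smul, hl.2]⟩
      · intro _ _ _ _ he; simpa using he
      · intro l hl
        simp only [F, Finset.mem_filter, Finset.mem_univ, true_and] at hl ⊢
        refine ⟨g⁻¹ * l * g, ⟨fun he => hl.1 ?_, ?_⟩, by group⟩
        · have : l = g * (g⁻¹ * l * g) * g⁻¹ := by group
          rw [this, he]; group
        · rw [mul_smul, mul_smul, hl.2, inv_smul_smul]
    have hO : (MulAction.orbit L a).toFinset.card = Nat.card (MulAction.orbit L a) := by
      rw [Nat.card_eq_fintype_card, Set.toFinset_card]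
    have hprod : Nat.card (MulAction.orbit L a) * Nat.card (MulAction.stabilizer L a)
        = Fintype.card L := by
      rw [← Nat.card_prod, ← Nat.card_congr (MulAction.orbitProdStabilizerEquivGroup L a).symm,
        Nat.card_eq_fintype_card]
    simp only [S]
    rw [Finset.card_biUnion hdisj, Finset.sum_congr rfl hconst, Finset.sum_const, smul_eq_mul, hO,
      ← hprod, ← hF a, mul_add, mul_one]
  obtain ⟨l₀, hl₀⟩ := exists_ne (1 : L)
  obtain ⟨a, ha, -⟩ := h l₀ hl₀
  have horb : ∀ ω : Ω, 2 ≤ Nat.card (MulAction.orbit L ω) := by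
    intro ω
    have : Nontrivial (MulAction.orbit L ω) := by
      obtain ⟨l, hl⟩ := hno ω
      exact ⟨⟨⟨_, MulAction.mem_orbit ω l⟩, ⟨ω, MulAction.mem_orbit_self ω⟩,
        fun he => hl (congrArg Subtype.val he)⟩⟩
    exact Finite.one_lt_card
  have hhalf : ∀ ω : Ω, (F ω).Nonempty → 2 * Nat.card (MulAction.orbit L ω) ≤ Fintype.card L := by
    intro ω hne
    have h1 : 2 ≤ Nat.card (MulAction.stabilizer L ω) := by
      rw [← hF ω]; have := hne.card_pos; omega
    calc 2 * Nat.card (MulAction.orbit L ω)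
        ≤ Nat.card (MulAction.stabilizer L ω) * Nat.card (MulAction.orbit L ω) :=
          Nat.mul_le_mul_right _ h1
      _ = Fintype.card L := by
          rw [mul_comm, ← Nat.card_prod,
            ← Nat.card_congr (MulAction.orbitProdStabilizerEquivGroup L ω).symm,
            Nat.card_eq_fintype_card]
  by_cases hall : ∀ l : L, l ≠ 1 → l ∈ S a
  · have : (S a).card + 1 = Fintype.card L := by
      have he : insert 1 (S a) = Finset.univ := by
        ext l; by_cases hl : l = 1 <;> simp [hl, hall]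
      rw [← Finset.card_univ, ← he, Finset.card_insert_of_notMem (by simp [S, F])]
    have := hS a
    have := horb a
    omega
  · push Not at hall
    obtain ⟨l₁, hl₁, hl₁S⟩ := hall
    obtain ⟨b, hb, -⟩ := h l₁ hl₁
    have hdis : Disjoint (S a) (S b) := by
      rw [Finset.disjoint_left]
      intro l hla hlb
      simp only [S, Finset.mem_biUnion, Set.mem_toFinset, F, Finset.mem_filter] at hla hlb
      obtain ⟨u, hu, -, hl, hlu⟩ := hla
      obtain ⟨v, hv, -, -, hlv⟩ := hlb
      rw [(h l hl).unique hlv hlu] at hv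
      apply hl₁S
      simp only [S, Finset.mem_biUnion, Set.mem_toFinset, F, Finset.mem_filter]
      refine ⟨b, ?_, Finset.mem_univ _, hl₁, hb⟩
      rw [← MulAction.orbit_eq_iff.2 hu, MulAction.orbit_eq_iff.2 hv]
      exact MulAction.mem_orbit_self b
    have h2 : (S a).card + (S b).card + 1 ≤ Fintype.card L := by
      rw [← Finset.card_union_of_disjoint hdis,
        ← Finset.card_insert_of_notMem (by simp [S, F] : (1 : L) ∉ S a ∪ S b)]
      exact Finset.card_le_univ _
    have := hS a
    have := hS b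
    have := hhalf a ⟨l₀, by simp [F, hl₀, ha]⟩
    have := hhalf b ⟨l₁, by simp [F, hl₁, hb]⟩
    omega

/-- A subgroup whose order divides `|H|` lies in a conjugate of the Frobenius complement `H`. -/
theorem exists_le_conj_of_card_dvd [Finite G] (hH : Cfsg.IsFrobeniusComplement H) {L : Subgroup G}
    (hL : Nat.card L ∣ Nat.card H) : ∃ g : G, L ≤ MulAut.conj g • H := by
  have h : ∀ l : L, l ≠ 1 → ∃! q : G ⧸ H, l • q = q := by
    intro l hl
    obtain ⟨g, hg⟩ := exists_conj_mem_of_orderOf_dvd hH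
      ((Subgroup.orderOf_dvd_natCard L l.2).trans hL)
    refine ⟨QuotientGroup.mk g, smul_mk_eq_self_iff.2 hg, fun q hq => ?_⟩
    exact fixed_point_unique hH (x := (l : G)) (by simpa using hl) hq (smul_mk_eq_self_iff.2 hg)
  obtain ⟨q, hq⟩ := exists_fixed_point_of_unique_fixed h
  induction q using QuotientGroup.induction_on with | H g => ?_
  exact ⟨g, fun l hl => mem_conj_smul_iff.2 (smul_mk_eq_self_iff.1 (hq ⟨l, hl⟩))⟩

/-- The index of a Frobenius complement is `1` modulo its order. -/
theorem card_dvd_index_sub_one [Finite G] (hH : Cfsg.IsFrobeniusComplement H) :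
    Nat.card H ∣ H.index - 1 := by
  classical
  haveI := Fintype.ofFinite G
  haveI := Fintype.ofFinite (G ⧸ H)
  have hfix : ∀ l : H, l ≠ 1 → Fintype.card (MulAction.fixedBy (G ⧸ H) l) = 1 := by
    intro l hl
    rw [Fintype.card_eq_one_iff]
    have hbase : l • (QuotientGroup.mk 1 : G ⧸ H) = QuotientGroup.mk 1 :=
      smul_mk_eq_self_iff.2 (by simpa using l.2)
    refine ⟨⟨_, hbase⟩, fun q => Subtype.ext ?_⟩
    exact fixed_point_unique hH (x := (l : G)) (by simpa using hl) q.2 hbase
  have hsum := MulAction.sum_card_fixedBy_eq_card_orbits_mul_card_group H (G ⧸ H)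
  have hone : Fintype.card (MulAction.fixedBy (G ⧸ H) (1 : H)) = H.index := by
    rw [Subgroup.index, ← Nat.card_eq_fintype_card]
    exact Nat.card_congr (Equiv.subtypeUnivEquiv fun q => one_smul _ q)
  rw [← Finset.add_sum_erase _ _ (Finset.mem_univ (1 : H)),
    Finset.sum_congr rfl (fun l hl => hfix l (Finset.ne_of_mem_erase hl)), hone,
    Finset.sum_const, Finset.card_erase_of_mem (Finset.mem_univ _), Finset.card_univ,
    smul_eq_mul, mul_one, ← Nat.card_eq_fintype_card (α := H)] at hsum
  have hpos : 1 ≤ H.index := Nat.one_le_iff_ne_zero.2 Subgroup.index_ne_zero_of_finite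
  have hposH : 1 ≤ Nat.card H := Nat.card_pos
  have h2 : Nat.card H ∣ (H.index - 1) + Nat.card H := by
    have : (H.index - 1) + Nat.card H = H.index + (Nat.card H - 1) := by omega
    rw [this, hsum]; exact dvd_mul_left _ _
  exact (Nat.dvd_add_left dvd_rfl).1 h2

/-- The Frobenius kernel has as many elements as the index of the complement. -/
theorem ncard_frobeniusKernel [Finite G] (hH : Cfsg.IsFrobeniusComplement H) :
    (Cfsg.frobeniusKernel H).ncard = H.index := by
  classical
  haveI := Fintype.ofFinite G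
  haveI := Fintype.ofFinite (G ⧸ H)
  -- pairs (point, nontrivial element fixing it)
  let f : (G ⧸ H) × {h : H // h ≠ 1} → G := fun p => p.1.out * p.2.1.1 * p.1.out⁻¹
  have hf : Function.Injective f := by
    rintro ⟨q, h⟩ ⟨q', h'⟩ he
    simp only [f] at he
    have hx1 : q.out * h.1.1 * q.out⁻¹ ≠ 1 := by
      intro hh; exact h.2 (Subtype.ext (by simpa using hh))
    have hqq : q = q' := by
      rw [← q.out_eq, ← q'.out_eq]
      refine coset_unique hH hx1 ?_ ?_
      · simp [mul_assoc]
      · rw [he]; simp [mul_assoc]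
    subst hqq
    rw [mul_left_inj, mul_right_inj] at he
    exact Prod.ext rfl (Subtype.ext (Subtype.ext he))
  have hrange : Set.range f = (Cfsg.frobeniusKernel H)ᶜ := by
    ext x
    constructor
    · rintro ⟨⟨q, h⟩, rfl⟩ (h1 | h1)
      · exact h.2 (Subtype.ext (by simpa [f] using h1))
      · exact h1 q.out (mem_conj_smul_iff.2 (by simp [f, mul_assoc]))
    · intro hx
      simp only [Cfsg.frobeniusKernel, Set.mem_compl_iff, Set.mem_ofPred_eq, not_or, not_forall,
        not_not] at hx
      obtain ⟨hx1, g, hg⟩ := hx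
      rw [mem_conj_smul_iff] at hg
      have hout : ((QuotientGroup.mk g : G ⧸ H).out)⁻¹ * x * (QuotientGroup.mk g : G ⧸ H).out
          ∈ H :=
        smul_mk_eq_self_iff.1 (by rw [QuotientGroup.out_eq']; exact smul_mk_eq_self_iff.2 hg)
      refine ⟨⟨QuotientGroup.mk g, ⟨⟨_, hout⟩, fun hh => hx1 ?_⟩⟩, ?_⟩
      · have hh' := congrArg Subtype.val hh
        simp only [Subgroup.coe_one] at hh'
        calc x = (QuotientGroup.mk g : G ⧸ H).out * (((QuotientGroup.mk g : G ⧸ H).out)⁻¹ * x *
              (QuotientGroup.mk g : G ⧸ H).out) * ((QuotientGroup.mk g : G ⧸ H).out)⁻¹ := by group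
          _ = 1 := by rw [hh']; group
      · simp only [f]; group
  have h1 := Set.ncard_add_ncard_compl (Cfsg.frobeniusKernel H)
  rw [← hrange, Set.ncard_range_of_injective hf, Nat.card_prod] at h1
  have h2 : Nat.card {h : H // h ≠ 1} = Nat.card H - 1 := by
    rw [Nat.card_eq_fintype_card, Fintype.card_subtype_compl, Fintype.card_subtype_eq,
      Nat.card_eq_fintype_card]
  rw [h2, ← H.card_mul_index, show Nat.card (G ⧸ H) = H.index from rfl, Nat.mul_sub_one,
    mul_comm (Nat.card H)] at h1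
  have h3 : H.index ≤ H.index * Nat.card H := Nat.le_mul_of_pos_right _ Nat.card_pos
  omega

theorem one_lt_index [Finite G] (hH : Cfsg.IsFrobeniusComplement H) : 1 < H.index :=
  H.one_lt_index_of_ne_top hH.2.1

theorem card_lt_index [Finite G] (hH : Cfsg.IsFrobeniusComplement H) : Nat.card H < H.index := by
  have h1 := one_lt_index hH
  have := Nat.le_of_dvd (by omega) (card_dvd_index_sub_one hH)
  omega

/-! ### Normal subgroups and normal complements -/

/-- A normal subgroup meeting `H` trivially lies in the Frobenius kernel. -/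
theorem normal_subset_frobeniusKernel (N : Subgroup G) [hN : N.Normal]
    (h : N ⊓ H = ⊥) : (N : Set G) ⊆ Cfsg.frobeniusKernel H := by
  intro x hx
  by_cases hx1 : x = 1
  · exact Or.inl hx1
  refine Or.inr fun g hg => hx1 ?_
  have hmem : g⁻¹ * x * g ∈ N ⊓ H := ⟨hN.conj_mem' x hx g, mem_conj_smul_iff.1 hg⟩
  rw [h, Subgroup.mem_bot] at hmem
  calc x = g * (g⁻¹ * x * g) * g⁻¹ := by group
    _ = 1 := by rw [hmem]; group

/-- A normal complement of a Frobenius complement is the Frobenius kernel. -/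
theorem normal_complement_eq_kernel [Finite G] (hH : Cfsg.IsFrobeniusComplement H)
    {K : Subgroup G} [K.Normal] (hK : K.IsComplement' H) :
    (K : Set G) = Cfsg.frobeniusKernel H := by
  refine Set.eq_of_subset_of_ncard_le
    (normal_subset_frobeniusKernel K (disjoint_iff.1 hK.disjoint)) ?_
  rw [ncard_frobeniusKernel hH, ← Nat.card_coe_set_eq, hK.index_eq_card]
  rfl

/-- No nontrivial element of a Frobenius complement centralizes a nontrivial element of a
normal complement. -/
theorem eq_one_of_commute (hH : Cfsg.IsFrobeniusComplement H) {K : Subgroup G}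
    (hdis : Disjoint K H) {k h : G} (hk : k ∈ K) (hh : h ∈ H) (hh1 : h ≠ 1)
    (hc : Commute h k) : k = 1 :=
  Subgroup.disjoint_def.1 hdis hk
    (centralizer_le hH hh hh1 (Subgroup.mem_centralizer_iff.2 (by rintro _ rfl; exact hc.eq)))

/-- A group with a normal subgroup `K` complemented by `H` on which `H` acts without fixed points
is a Frobenius group with complement `H`. -/
theorem isFrobeniusComplement_of_normal_complement {K : Subgroup G} [hKn : K.Normal]
    (hK : K.IsComplement' H) (hKb : K ≠ ⊥) (hHb : H ≠ ⊥)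
    (hfree : ∀ h ∈ H, h ≠ 1 → ∀ k ∈ K, h * k = k * h → k = 1) :
    Cfsg.IsFrobeniusComplement H := by
  refine ⟨hHb, fun hT => hKb ?_, fun g hg => ?_⟩
  · simpa [hT] using disjoint_iff.1 hK.disjoint
  rw [eq_bot_iff]
  rintro x ⟨hx, hx'⟩
  by_contra hx1
  rw [Subgroup.mem_bot] at hx1
  have hxg : g⁻¹ * x * g ∈ H := mem_conj_smul_iff.1 hx'
  obtain ⟨⟨k, h⟩, rfl⟩ := hK.existsUnique g |>.exists
  -- `k⁻¹ x k ∈ H`
  have hy : (k : G)⁻¹ * x * k ∈ H := by
    have := H.mul_mem (H.mul_mem h.2 hxg) (H.inv_mem h.2)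
    simpa [mul_assoc] using this
  -- it differs from `x` by an element of `K`
  have hd : x⁻¹ * ((k : G)⁻¹ * x * k) = 1 := by
    refine Subgroup.disjoint_def.1 hK.disjoint ?_ (H.mul_mem (H.inv_mem hx) hy)
    have := K.mul_mem (hKn.conj_mem' _ (K.inv_mem k.2) x) k.2
    simpa [mul_assoc] using this
  have hcomm : x * k = k * x := by
    have := inv_mul_eq_one.1 hd
    calc x * k = k * ((k : G)⁻¹ * x * k) := by group
      _ = k * x := by rw [← this]
  have hk1 : (k : G) = 1 := hfree x hx hx1 k k.2 hcomm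
  exact hg (by simp [hk1])

/-- With `K` a normal complement, every normal subgroup either lies in `K` or contains `K`. -/
theorem normal_le_or_ge [Finite G] (hH : Cfsg.IsFrobeniusComplement H) {K : Subgroup G}
    [hKn : K.Normal] (hK : K.IsComplement' H) (N : Subgroup G) [hN : N.Normal] :
    N ≤ K ∨ K ≤ N := by
  by_cases hd : N ⊓ H = ⊥
  · left
    intro x hx
    have := normal_subset_frobeniusKernel N hd hx
    rwa [← normal_complement_eq_kernel hH hK] at this
  right
  obtain ⟨⟨y, hy⟩, hy1⟩ := Subgroup.ne_bot_iff_exists_ne_one.1 hd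
  have hy1' : y ≠ 1 := fun h => hy1 (Subtype.ext h)
  let f : K → K := fun k => ⟨y⁻¹ * (k : G)⁻¹ * y * k,
    K.mul_mem (hKn.conj_mem' _ (K.inv_mem k.2) y) k.2⟩
  have hf : Function.Injective f := by
    intro a b hab
    have he : y⁻¹ * (a : G)⁻¹ * y * a = y⁻¹ * (b : G)⁻¹ * y * b := congrArg Subtype.val hab
    have hc : Commute y ((a : G) * (b : G)⁻¹) := by
      have h4 : y * a = a * ((b : G)⁻¹ * y * b) := by
        calc y * a = (a * y) * (y⁻¹ * (a : G)⁻¹ * y * a) := by group
          _ = (a * y) * (y⁻¹ * (b : G)⁻¹ * y * b) := by rw [he]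
          _ = _ := by group
      show y * ((a : G) * (b : G)⁻¹) = (a : G) * (b : G)⁻¹ * y
      rw [← mul_assoc, h4]; group
    have := eq_one_of_commute hH hK.disjoint (K.mul_mem a.2 (K.inv_mem b.2)) hy.2 hy1' hc
    exact Subtype.ext (mul_inv_eq_one.1 this)
  intro k hk
  obtain ⟨a, ha⟩ := Finite.injective_iff_surjective.1 hf ⟨k, hk⟩
  have : y⁻¹ * (a : G)⁻¹ * y * a = k := congrArg Subtype.val ha
  rw [← this]
  have h5 : (a : G)⁻¹ * y * a ∈ N := hN.conj_mem' y hy.1 a
  have := N.mul_mem (N.inv_mem hy.1) h5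
  simpa [mul_assoc] using this

/-- With `K` a normal complement, `C(k) ≤ K` for every nontrivial `k ∈ K`. -/
theorem centralizer_le_of_mem_complement [Finite G] (hH : Cfsg.IsFrobeniusComplement H)
    {K : Subgroup G} [hKn : K.Normal] (hK : K.IsComplement' H) {k : G} (hk : k ∈ K) (hk1 : k ≠ 1) :
    Subgroup.centralizer ({k} : Set G) ≤ K := by
  intro x hx
  have hker : x ∈ Cfsg.frobeniusKernel H := by
    by_cases hx1 : x = 1
    · exact Or.inl hx1
    refine Or.inr fun g hg => hk1 ?_
    rw [mem_conj_smul_iff] at hg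
    have hne : g⁻¹ * x * g ≠ 1 := by
      intro hh; apply hx1
      calc x = g * (g⁻¹ * x * g) * g⁻¹ := by group
        _ = 1 := by rw [hh]; group
    have h0 : k * x = x * k := Subgroup.mem_centralizer_iff.1 hx k rfl
    have hc : Commute (g⁻¹ * x * g) (g⁻¹ * k * g) := by
      show g⁻¹ * x * g * (g⁻¹ * k * g) = g⁻¹ * k * g * (g⁻¹ * x * g)
      calc g⁻¹ * x * g * (g⁻¹ * k * g) = g⁻¹ * (x * k) * g := by group
        _ = g⁻¹ * (k * x) * g := by rw [h0]
        _ = _ := by group
    have := eq_one_of_commute hH hK.disjoint (hKn.conj_mem' k hk g) hg hne hc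
    calc k = g * (g⁻¹ * k * g) * g⁻¹ := by group
      _ = 1 := by rw [this]; group
  rwa [← normal_complement_eq_kernel hH hK] at hker

/-- A Frobenius group has trivial centre. -/
theorem center_eq_bot (hH : Cfsg.IsFrobeniusComplement H) : Subgroup.center G = ⊥ := by
  rw [eq_bot_iff]
  intro z hz
  obtain ⟨g, hg⟩ := SetLike.exists_not_mem_of_ne_top H hH.2.1
  obtain ⟨⟨x, hx⟩, hx1⟩ := Subgroup.ne_bot_iff_exists_ne_one.1 hH.1
  have hx1' : x ≠ 1 := fun h => hx1 (Subtype.ext h)
  have hzH : z ∈ H := centralizer_le hH hx hx1' (Subgroup.mem_centralizer_iff.2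
    (by rintro _ rfl; exact Subgroup.mem_center_iff.1 hz _))
  refine Subgroup.mem_bot.2 (eq_one_of_mem_of_conj_mem hH hg hzH ?_)
  rw [mul_assoc, ← Subgroup.mem_center_iff.1 hz g]; simpa using hzH

end CfsgLib.Frobenius
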