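import Mathlib.GroupTheory.FixedPointFree
import Mathlib.GroupTheory.SemidirectProduct
import Mathlib.GroupTheory.SchurZassenhaus
import Mathlib.GroupTheory.SpecificGroups.Cyclic
import Cfsg.Agent.Lib.Frobenius.Basic

/-!
# Fixed-point-free actions by automorphisms

`IsFPF A N` : every nontrivial element of `A` fixes only `1` in `N`.
-/

set_option autoImplicit false

open scoped Pointwise

namespace CfsgLib.Frobenius

/-- `A` acts on `N` fixed-point-freely. -/
def IsFPF (A N : Type*) [Group A] [Group N] [MulDistribMulAction A N] : Prop :=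
  ∀ a : A, a ≠ 1 → ∀ n : N, a • n = n → n = 1

variable {A N : Type*} [Group A] [Group N] [MulDistribMulAction A N]

theorem IsFPF.commutator_injective (h : IsFPF A N) {a : A} (ha : a ≠ 1) :
    Function.Injective fun n : N => n⁻¹ * a • n := by
  intro m n hmn
  have : a • (m * n⁻¹) = m * n⁻¹ := by
    simp only at hmn
    rw [smul_mul', smul_inv', inv_mul_eq_iff_eq_mul.1 hmn]
    group
  exact mul_inv_eq_one.1 (h a ha _ this)

theorem IsFPF.commutator_bijective [Finite N] (h : IsFPF A N) {a : A} (ha : a ≠ 1) :
    Function.Bijective fun n : N => n⁻¹ * a • n :=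
  ⟨h.commutator_injective ha, Finite.injective_iff_surjective.1 (h.commutator_injective ha)⟩

theorem IsFPF.exists_inv_mul_smul_eq [Finite N] (h : IsFPF A N) {a : A} (ha : a ≠ 1) (v : N) :
    ∃ n : N, n⁻¹ * a • n = v :=
  (h.commutator_bijective ha).2 v

/-- A fixed-point-free action on a nontrivial group is faithful. -/
theorem IsFPF.faithful (h : IsFPF A N) [Nontrivial N] {a : A} (ha : ∀ n : N, a • n = n) :
    a = 1 := by
  by_contra ha1
  obtain ⟨n, hn⟩ := exists_ne (1 : N)
  exact hn (h a ha1 n (ha n))

/-- `|N| ≡ 1` modulo `|A|`. -/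
theorem IsFPF.card_dvd_sub_one [Finite A] [Finite N] (h : IsFPF A N) :
    Nat.card A ∣ Nat.card N - 1 := by
  classical
  haveI := Fintype.ofFinite A
  haveI := Fintype.ofFinite N
  have hfix : ∀ a : A, a ≠ 1 → Fintype.card (MulAction.fixedBy N a) = 1 := by
    intro a ha
    rw [Fintype.card_eq_one_iff]
    exact ⟨⟨1, smul_one a⟩, fun n => Subtype.ext (h a ha n.1 n.2)⟩
  have hone : Fintype.card (MulAction.fixedBy N (1 : A)) = Nat.card N := by
    rw [← Nat.card_eq_fintype_card]
    exact Nat.card_congr (Equiv.subtypeUnivEquiv fun n => one_smul _ n)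
  have hsum := MulAction.sum_card_fixedBy_eq_card_orbits_mul_card_group A N
  rw [← Finset.add_sum_erase _ _ (Finset.mem_univ (1 : A)),
    Finset.sum_congr rfl (fun a ha => hfix a (Finset.ne_of_mem_erase ha)), hone,
    Finset.sum_const, Finset.card_erase_of_mem (Finset.mem_univ _), Finset.card_univ,
    smul_eq_mul, mul_one, ← Nat.card_eq_fintype_card (α := A)] at hsum
  have h1 : 1 ≤ Nat.card A := Nat.card_pos
  have h2 : 1 ≤ Nat.card N := Nat.card_pos
  refine (Nat.dvd_add_left (dvd_refl (Nat.card A))).1 ?_
  have : Nat.card N - 1 + Nat.card A = Nat.card N + (Nat.card A - 1) := by omega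
  rw [this, hsum]
  exact dvd_mul_left _ _

theorem IsFPF.coprime_card [Finite A] [Finite N] (h : IsFPF A N) :
    (Nat.card A).Coprime (Nat.card N) := by
  refine Nat.coprime_of_dvd fun p hp hpA hpN => ?_
  have h1 := hpA.trans h.card_dvd_sub_one
  have := Nat.dvd_sub hpN h1
  have h2 : 1 ≤ Nat.card N := Nat.card_pos
  rw [show Nat.card N - (Nat.card N - 1) = 1 by omega] at this
  exact hp.one_lt.ne' (Nat.dvd_one.1 this)

/-- An involution acting fixed-point-freely inverts everything. -/
theorem IsFPF.smul_eq_inv [Finite N] (h : IsFPF A N) {a : A} (ha : a ≠ 1) (ha2 : a * a = 1)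
    (n : N) : a • n = n⁻¹ := by
  obtain ⟨m, rfl⟩ := h.exists_inv_mul_smul_eq ha n
  rw [smul_mul', smul_inv', ← mul_smul, ha2, one_smul]
  group

theorem IsFPF.commute_of_involution [Finite N] (h : IsFPF A N) {a : A} (ha : a ≠ 1)
    (ha2 : a * a = 1) (m n : N) : Commute m n := by
  have h1 := h.smul_eq_inv ha ha2 (m⁻¹ * n⁻¹)
  rw [smul_mul', h.smul_eq_inv ha ha2, h.smul_eq_inv ha ha2] at h1
  simpa [Commute, SemiconjBy] using h1

theorem IsFPF.involution_unique [Finite N] [Nontrivial N] (h : IsFPF A N) {a b : A}
    (ha : a ≠ 1) (ha2 : a * a = 1) (hb : b ≠ 1) (hb2 : b * b = 1) : a = b := by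
  have h1 : ∀ n : N, (a * b) • n = n := by
    intro n
    rw [mul_smul, h.smul_eq_inv hb hb2, smul_inv', h.smul_eq_inv ha ha2, inv_inv]
  have h2 := h.faithful h1
  calc a = a * (b * b) := by rw [hb2, mul_one]
    _ = b := by rw [← mul_assoc, h2, one_mul]

theorem IsFPF.comp (h : IsFPF A N) {B : Type*} [Group B] (f : B →* A) (hf : Function.Injective f) :
    @IsFPF B N _ _ (MulDistribMulAction.compHom N f) := by
  intro b hb n hn
  exact h (f b) (fun he => hb (hf (he.trans f.map_one.symm))) n hn

/-! ### Commutative `N`: norms and partitions -/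

section Comm

variable {V : Type*} [CommGroup V] [MulDistribMulAction A V]

theorem IsFPF.prod_smul_eq_one (h : IsFPF A V) (U : Subgroup A) [Fintype U] (hU : U ≠ ⊥)
    (v : V) : ∏ u : U, (u : A) • v = 1 := by
  obtain ⟨⟨b, hb⟩, hb1⟩ := Subgroup.ne_bot_iff_exists_ne_one.1 hU
  refine h b (fun he => hb1 (Subtype.ext he)) _ ?_
  rw [Finset.smul_prod']
  refine Fintype.prod_equiv (Equiv.mulLeft (⟨b, hb⟩ : U)) _ _ fun u => ?_
  simp [mul_smul]

/-- If `A` is partitioned by `k` nontrivial subgroups, then `v ^ k = v`. -/
theorem IsFPF.pow_card_eq_self [Finite A] [Nontrivial A] (h : IsFPF A V) {ι : Type*} [Fintype ι]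
    (U : ι → Subgroup A) (hne : ∀ i, U i ≠ ⊥) (hpart : ∀ a : A, a ≠ 1 → ∃! i, a ∈ U i) (v : V) :
    v ^ Fintype.card ι = v := by
  classical
  haveI := Fintype.ofFinite A
  have hcover : (Finset.univ : Finset A).erase 1 =
      Finset.univ.biUnion (fun i => (Finset.univ.filter (· ∈ U i)).erase 1) := by
    ext a
    by_cases ha : a = 1
    · simp [ha]
    · obtain ⟨i, hi, -⟩ := hpart a ha
      simp [ha]; exact ⟨i, hi⟩
  have hdisj : Set.PairwiseDisjoint (Finset.univ : Finset ι)
      (fun i => (Finset.univ.filter (· ∈ U i)).erase 1) := by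
    intro i _ j _ hij
    show Disjoint _ _
    rw [Finset.disjoint_left]
    intro a hai haj
    simp only [Finset.mem_erase, Finset.mem_filter] at hai haj
    exact hij ((hpart a hai.1).unique hai.2.2 haj.2.2)
  have hpiece : ∀ i, ∏ a ∈ (Finset.univ.filter (· ∈ U i)).erase 1, a • v = v⁻¹ := by
    intro i
    have h1 : (1 : A) ∈ Finset.univ.filter (· ∈ U i) := by simp
    have h2 : ∏ a ∈ Finset.univ.filter (· ∈ U i), a • v = 1 := by
      rw [← h.prod_smul_eq_one (U i) (hne i) v]
      exact Finset.prod_subtype _ (by simp) _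
    rw [← Finset.mul_prod_erase _ _ h1, one_smul] at h2
    exact eq_inv_of_mul_eq_one_right h2
  have htop : ∏ a ∈ (Finset.univ : Finset A).erase 1, a • v = v⁻¹ := by
    have h2 : ∏ a : A, a • v = 1 := by
      rw [← h.prod_smul_eq_one (⊤ : Subgroup A) top_ne_bot v]
      exact (Fintype.prod_equiv Subgroup.topEquiv.toEquiv _ _ fun u => rfl).symm
    rw [← Finset.mul_prod_erase _ _ (Finset.mem_univ (1 : A)), one_smul] at h2
    exact eq_inv_of_mul_eq_one_right h2
  rw [hcover, Finset.prod_biUnion hdisj, Finset.prod_congr rfl (fun i _ => hpiece i),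
    Finset.prod_const, Finset.card_univ, inv_pow, inv_inj] at htop
  exact htop

/-- No noncyclic group of order `p * q` (`p`, `q` primes, possibly equal) acts fixed-point-freely
on a nontrivial finite abelian group. -/
theorem IsFPF.isCyclic_of_card_eq_mul_comm [Finite A] [Finite V] [Nontrivial V] (h : IsFPF A V)
    {p q : ℕ} (hp : p.Prime) (hq : q.Prime) (hA : Nat.card A = p * q) : IsCyclic A := by
  classical
  wlog hpq : p ≤ q generalizing p q
  · exact this hq hp (hA.trans (mul_comm p q)) (le_of_not_ge hpq)
  by_contra hnc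
  haveI := Fintype.ofFinite A
  haveI : Nontrivial A := Finite.one_lt_card_iff_nontrivial.1
    (by rw [hA]; exact one_lt_mul'' hp.one_lt hq.one_lt)
  haveI := Fact.mk hq
  -- orders of nontrivial elements
  have hord : ∀ a : A, a ≠ 1 → orderOf a = p ∨ orderOf a = q := by
    intro a ha
    have hd : orderOf a ∣ p * q := hA ▸ orderOf_dvd_natCard a
    obtain ⟨d₁, d₂, hd₁, hd₂, he⟩ := exists_dvd_and_dvd_of_dvd_mul hd
    rcases (Nat.dvd_prime hp).1 hd₁ with rfl | rfl <;>
      rcases (Nat.dvd_prime hq).1 hd₂ with rfl | rfl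
    · exact absurd (orderOf_eq_one_iff.1 (by simpa using he)) ha
    · exact Or.inr (by simpa using he)
    · exact Or.inl (by simpa using he)
    · exact absurd (isCyclic_of_orderOf_eq_card a (he.trans hA.symm)) hnc
  let I := {U : Subgroup A // (Nat.card U).Prime}
  haveI : Fintype I := Fintype.ofFinite I
  have hne : ∀ i : I, i.1 ≠ ⊥ := fun i hb => by
    have := i.2; rw [hb, Subgroup.card_bot] at this; exact Nat.not_prime_one this
  have hzp : ∀ a : A, a ≠ 1 → (Nat.card (Subgroup.zpowers a)).Prime := by
    intro a ha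
    rw [Nat.card_zpowers]
    rcases hord a ha with e | e <;> rw [e] <;> assumption
  have huniq : ∀ a : A, a ≠ 1 → ∀ i : I, a ∈ i.1 → i.1 = Subgroup.zpowers a := by
    intro a ha i hai
    refine (Subgroup.eq_of_le_of_card_ge (Subgroup.zpowers_le.2 hai) ?_).symm
    rcases i.2.eq_one_or_self_of_dvd _ (Subgroup.card_dvd_of_le (Subgroup.zpowers_le.2 hai)) with
      e | e
    · rw [Nat.card_zpowers, orderOf_eq_one_iff] at e; exact absurd e ha
    · exact e.ge
  have hpart : ∀ a : A, a ≠ 1 → ∃! i : I, a ∈ i.1 := fun a ha =>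
    ⟨⟨_, hzp a ha⟩, Subgroup.mem_zpowers a, fun i hi => Subtype.ext (huniq a ha i hi)⟩
  -- count the subgroups of prime order
  have hcount : ∑ i : I, (Nat.card i.1 - 1) + 1 = p * q := by
    have hcover : (Finset.univ : Finset A).erase 1 =
        Finset.univ.biUnion (fun i : I => (Finset.univ.filter (· ∈ i.1)).erase 1) := by
      ext a
      by_cases ha : a = 1
      · simp [ha]
      · obtain ⟨i, hi, -⟩ := hpart a ha
        simp only [Finset.mem_erase, Finset.mem_univ, and_true, ne_eq, ha, not_false_eq_true,
          Finset.mem_biUnion, true_and, Finset.mem_filter, true_iff]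
        exact ⟨i, hi⟩
    have hc := congrArg Finset.card hcover
    rw [Finset.card_biUnion, Finset.card_erase_of_mem (Finset.mem_univ _), Finset.card_univ,
      ← Nat.card_eq_fintype_card, hA] at hc
    · have e : ∀ i : I, ((Finset.univ.filter (· ∈ i.1)).erase 1).card = Nat.card i.1 - 1 := by
        intro i
        rw [Finset.card_erase_of_mem (by simp), Nat.card_eq_fintype_card, Fintype.card_subtype]
      simp only [e] at hc
      have := Nat.mul_pos hp.pos hq.pos
      omega
    · intro i _ j _ hij
      show Disjoint _ _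
      rw [Finset.disjoint_left]
      intro a hai haj
      simp only [Finset.mem_erase, Finset.mem_filter] at hai haj
      exact hij ((hpart a hai.1).unique hai.2.2 haj.2.2)
  have hk : Fintype.card I = q + 1 := by
    have hcard : ∀ i : I, Nat.card i.1 = p ∨ Nat.card i.1 = q := by
      intro i
      have : Nat.card i.1 ∣ p * q := hA ▸ Subgroup.card_subgroup_dvd_card i.1
      rcases (Nat.Prime.dvd_mul i.2).1 this with e | e
      · exact Or.inl ((Nat.prime_dvd_prime_iff_eq i.2 hp).1 e)
      · exact Or.inr ((Nat.prime_dvd_prime_iff_eq i.2 hq).1 e)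
    rcases hpq.lt_or_eq with hlt | rfl
    · -- exactly one subgroup of order `q`
      obtain ⟨a, ha⟩ := exists_prime_orderOf_dvd_card' (G := A) q (hA ▸ dvd_mul_left q p)
      let i₀ : I := ⟨Subgroup.zpowers a, by rw [Nat.card_zpowers, ha]; exact hq⟩
      have hfac : (Nat.card A).factorization q = 1 := by
        rw [hA, Nat.factorization_mul hp.ne_zero hq.ne_zero]
        simp [hp.factorization, hq.factorization, hlt.ne']
      have hiq : ∀ i : I, Nat.card i.1 = q → i = i₀ := by
        intro i hi
        let P : Sylow q A := Sylow.ofCard i.1 (by rw [hfac, pow_one, hi])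
        let Q : Sylow q A := Sylow.ofCard i₀.1
          (by rw [hfac, pow_one]; exact (Nat.card_zpowers a).trans ha)
        have hP : (P : Subgroup A).index = p := by
          have h1 := (P : Subgroup A).card_mul_index
          rw [show Nat.card (P : Subgroup A) = q from hi, hA, mul_comm p q] at h1
          exact Nat.eq_of_mul_eq_mul_left hq.pos h1
        have hn : Nat.card (Sylow q A) = 1 := by
          rcases (Nat.dvd_prime hp).1 (hP ▸ P.card_dvd_index) with e | e
          · exact e
          · exfalso
            have hmod := card_sylow_modEq_one q A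
            rw [e, Nat.ModEq, Nat.mod_eq_of_lt hlt, Nat.mod_eq_of_lt hq.one_lt] at hmod
            exact hp.one_lt.ne' hmod
        haveI := (Nat.card_eq_one_iff_unique.1 hn).1
        exact Subtype.ext (congrArg Sylow.toSubgroup (Subsingleton.elim P Q))
      have hsum : ∑ i : I, (Nat.card i.1 - 1) =
          (q - 1) + (Fintype.card I - 1) * (p - 1) := by
        rw [← Finset.add_sum_erase _ _ (Finset.mem_univ i₀)]
        have : ∀ i ∈ (Finset.univ : Finset I).erase i₀, Nat.card i.1 - 1 = p - 1 := by
          intro i hi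
          rcases hcard i with e | e
          · rw [e]
          · exact absurd (hiq i e) (Finset.ne_of_mem_erase hi)
        rw [Finset.sum_congr rfl this, Finset.sum_const, Finset.card_erase_of_mem
          (Finset.mem_univ _), Finset.card_univ, smul_eq_mul]
        congr 1
        rw [show Nat.card i₀.1 = q from (Nat.card_zpowers a).trans ha]
      have hpos : 1 ≤ Fintype.card I := Fintype.card_pos_iff.2 ⟨i₀⟩
      have h3 : (Fintype.card I - 1) * (p - 1) = q * (p - 1) := by
        have h4 : q * (p - 1) + q = p * q := by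
          rw [← Nat.mul_succ, Nat.succ_eq_add_one, Nat.sub_add_cancel hp.pos, mul_comm]
        have := hq.pos
        omega
      have := Nat.eq_of_mul_eq_mul_right (Nat.sub_pos_of_lt hp.one_lt) h3
      omega
    · have : ∀ i : I, Nat.card i.1 - 1 = p - 1 := fun i => by
        rcases hcard i with e | e <;> rw [e]
      simp only [this, Finset.sum_const, Finset.card_univ, smul_eq_mul] at hcount
      have h4 : (p + 1) * (p - 1) + 1 = p * p := by
        obtain ⟨r, rfl⟩ := Nat.exists_eq_add_of_le hp.one_lt.le
        rw [show 1 + r - 1 = r by omega]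
        ring
      exact Nat.eq_of_mul_eq_mul_right (Nat.sub_pos_of_lt hp.one_lt) (by omega)
  obtain ⟨v, hv⟩ := exists_ne (1 : V)
  have hvk := h.pow_card_eq_self (fun i : I => i.1) hne hpart v
  rw [hk, pow_succ, mul_eq_right] at hvk
  have hco : (q).Coprime (Nat.card V) :=
    (hA ▸ h.coprime_card).coprime_dvd_left (dvd_mul_left q p)
  exact hv (orderOf_eq_one_iff.1 (Nat.eq_one_of_dvd_coprimes hco
    (orderOf_dvd_of_pow_eq_one hvk) (orderOf_dvd_natCard v)))

end Comm

/-! ### Invariant Sylow subgroups -/

/-- In a Frobenius group with normal complement `K`, the Frobenius complement normalizes a Sylow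
`p`-subgroup of `K`. -/
theorem exists_sylow_normalized {G : Type*} [Group G] [Finite G] {H K : Subgroup G}
    (hH : Cfsg.IsFrobeniusComplement H) [hKn : K.Normal] (hK : K.IsComplement' H)
    (p : ℕ) [Fact p.Prime] :
    ∃ P : Sylow p K, H ≤ Subgroup.normalizer (((P : Subgroup K).map K.subtype : Subgroup G) : Set G)
    := by
  obtain ⟨P⟩ : Nonempty (Sylow p K) := inferInstance
  let M : Subgroup G := Subgroup.normalizer (((P : Subgroup K).map K.subtype : Subgroup G) : Set G)
  have hMK : M ⊔ K = ⊤ := P.normalizer_sup_eq_top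
  -- a complement of `M ⊓ K` in `M`
  let KM : Subgroup M := K.subgroupOf M
  have hidx : KM.index = Nat.card H := by
    show K.relIndex M = _
    rw [← Subgroup.relIndex_sup_right M K, hMK, Subgroup.relIndex_top_right,
      hK.symm.index_eq_card]
  have hdvd : Nat.card KM ∣ Nat.card K := by
    rw [← Subgroup.card_map_of_injective M.subtype_injective]
    exact Subgroup.card_dvd_of_le (by rw [Subgroup.subgroupOf_map_subtype]; exact inf_le_left)
  have hco : (Nat.card KM).Coprime KM.index := by
    rw [hidx]
    refine Nat.Coprime.coprime_dvd_left hdvd ?_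
    rw [← hK.index_eq_card]
    exact (coprime_card_index hH).symm
  obtain ⟨C, hC⟩ := Subgroup.exists_right_complement'_of_coprime hco
  let L : Subgroup G := C.map M.subtype
  have hLcard : Nat.card L = Nat.card H := by
    rw [Subgroup.card_map_of_injective M.subtype_injective, ← hC.symm.index_eq_card, hidx]
  obtain ⟨g, hg⟩ := exists_le_conj_of_card_dvd hH hLcard.dvd
  have hcard : Nat.card (MulAut.conj g • H : Subgroup G) = Nat.card H :=
    (Nat.card_congr (Subgroup.equivSMul (MulAut.conj g) H).toEquiv).symm
  have hEq : L = MulAut.conj g • H := Subgroup.eq_of_le_of_card_ge hg (by rw [hcard, hLcard])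
  refine ⟨MulAut.conjNormal (H := K) (g⁻¹ : G) • P, ?_⟩
  intro x hx
  have hxM : g * x * g⁻¹ ∈ M := by
    have : g * x * g⁻¹ ∈ L := by
      rw [hEq, mem_conj_smul_iff]
      simpa [mul_assoc] using hx
    obtain ⟨c, -, hc⟩ := this
    rw [← hc]
    exact c.2
  have hmap : ((MulAut.conjNormal (H := K) (g⁻¹ : G) • P : Sylow p K) : Subgroup K).map K.subtype =
      MulAut.conj g⁻¹ • ((P : Subgroup K).map K.subtype) := by
    ext y
    rw [mem_conj_smul_iff, inv_inv]
    constructor
    · rintro ⟨z, hz, rfl⟩
      obtain ⟨w, hw, rfl⟩ := hz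
      refine ⟨w, hw, ?_⟩
      simp [MulAut.smul_def, mul_assoc]
    · rintro ⟨w, hw, hwy⟩
      refine ⟨MulAut.conjNormal (H := K) (g⁻¹ : G) • w, ⟨w, hw, rfl⟩, ?_⟩
      simp only [Subgroup.coe_subtype] at hwy
      simp [MulAut.smul_def, hwy, mul_assoc]
  rw [hmap, Subgroup.mem_normalizer_iff]
  intro y
  rw [mem_conj_smul_iff, mem_conj_smul_iff, inv_inv]
  have := (Subgroup.mem_normalizer_iff.1 hxM) (g * y * g⁻¹)
  rw [this]
  simp [mul_assoc]

/-- The semidirect product of a fixed-point-free action is a Frobenius group. -/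
theorem IsFPF.isFrobeniusComplement_range_inr [Nontrivial A] [Nontrivial N] (h : IsFPF A N) :
    Cfsg.IsFrobeniusComplement
      (SemidirectProduct.inr (φ := MulDistribMulAction.toMulAut A N)).range := by
  set φ := MulDistribMulAction.toMulAut A N with hφ
  let E := SemidirectProduct N A φ
  let K : Subgroup E := (SemidirectProduct.inl (φ := φ)).range
  haveI : K.Normal := by
    show (SemidirectProduct.inl (φ := φ)).range.Normal
    rw [SemidirectProduct.range_inl_eq_ker_rightHom]; infer_instance
  have hcompl : K.IsComplement' (SemidirectProduct.inr (φ := φ)).range := by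
    apply Subgroup.isComplement'_of_disjoint_and_mul_eq_univ
    · rw [Subgroup.disjoint_def]
      rintro _ ⟨n, rfl⟩ ⟨a, ha⟩
      have := congrArg SemidirectProduct.right ha
      simp at this
      subst this
      simpa using ha.symm
    · refine Set.eq_univ_of_forall fun g => ?_
      exact ⟨_, ⟨g.left, rfl⟩, _, ⟨g.right, rfl⟩, g.inl_left_mul_inr_right⟩
  refine isFrobeniusComplement_of_normal_complement (K := K) hcompl ?_ ?_ ?_
  · intro hb
    obtain ⟨n, hn⟩ := exists_ne (1 : N)
    have : (SemidirectProduct.inl n : E) ∈ K := ⟨n, rfl⟩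
    rw [hb, Subgroup.mem_bot] at this
    exact hn (SemidirectProduct.inl_injective (this.trans (map_one _).symm))
  · intro hb
    obtain ⟨a, ha⟩ := exists_ne (1 : A)
    have : (SemidirectProduct.inr a : E) ∈ (SemidirectProduct.inr (φ := φ)).range := ⟨a, rfl⟩
    rw [hb, Subgroup.mem_bot] at this
    exact ha (SemidirectProduct.inr_injective (this.trans (map_one _).symm))
  · rintro _ ⟨a, rfl⟩ ha1 _ ⟨n, rfl⟩ hc
    have ha : a ≠ 1 := fun e => ha1 (by simp [e])
    have h1 : a • n = n := by
      have := congrArg SemidirectProduct.left hc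
      simpa [hφ] using this
    rw [h a ha n h1, map_one]

/-- A fixed-point-free group of automorphisms leaves some Sylow `p`-subgroup invariant. -/
theorem IsFPF.exists_invariant_sylow [Finite A] [Finite N] (h : IsFPF A N) (p : ℕ)
    [Fact p.Prime] : ∃ P : Sylow p N, ∀ a : A, ∀ x ∈ P, a • x ∈ P := by
  rcases subsingleton_or_nontrivial A with hA | hA
  · obtain ⟨P⟩ : Nonempty (Sylow p N) := inferInstance
    exact ⟨P, fun a x hx => by rwa [Subsingleton.elim a 1, one_smul]⟩
  rcases subsingleton_or_nontrivial N with hN | hN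
  · obtain ⟨P⟩ : Nonempty (Sylow p N) := inferInstance
    exact ⟨P, fun a x hx => by rwa [Subsingleton.elim (a • x) x]⟩
  have hF := h.isFrobeniusComplement_range_inr
  set φ := MulDistribMulAction.toMulAut A N with hφ
  let E := SemidirectProduct N A φ
  haveI : Finite E := Finite.of_equiv _ SemidirectProduct.equivProd.symm
  let K : Subgroup E := (SemidirectProduct.inl (φ := φ)).range
  haveI : K.Normal := by
    show (SemidirectProduct.inl (φ := φ)).range.Normal
    rw [SemidirectProduct.range_inl_eq_ker_rightHom]; infer_instance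
  have hcompl : K.IsComplement' (SemidirectProduct.inr (φ := φ)).range := by
    apply Subgroup.isComplement'_of_disjoint_and_mul_eq_univ
    · rw [Subgroup.disjoint_def]
      rintro _ ⟨n, rfl⟩ ⟨a, ha⟩
      have := congrArg SemidirectProduct.right ha
      simp at this
      subst this
      simpa using ha.symm
    · refine Set.eq_univ_of_forall fun g => ?_
      exact ⟨_, ⟨g.left, rfl⟩, _, ⟨g.right, rfl⟩, g.inl_left_mul_inr_right⟩
  obtain ⟨Q, hQ⟩ := exists_sylow_normalized hF hcompl p
  let e : N →* E := SemidirectProduct.inl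
  have hin : ∀ x : N, e x ∈ (Q : Subgroup K).map K.subtype ↔
      x ∈ ((Q : Subgroup K).map K.subtype).comap e := fun x => Iff.rfl
  let P : Subgroup N := ((Q : Subgroup K).map K.subtype).comap e
  have hle : (Q : Subgroup K).map K.subtype ≤ e.range := Subgroup.map_subtype_le _
  have hcard : Nat.card P = Nat.card (Q : Subgroup K) := by
    rw [← Subgroup.card_map_of_injective (f := e) SemidirectProduct.inl_injective,
      Subgroup.map_comap_eq_self hle, Subgroup.card_map_of_injective K.subtype_injective]
  have hKN : Nat.card K = Nat.card N :=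
    (Nat.card_congr (MonoidHom.ofInjective SemidirectProduct.inl_injective).toEquiv).symm
  refine ⟨Sylow.ofCard P (by rw [hcard, Q.card_eq_multiplicity, hKN]), fun a x hx => ?_⟩
  have hx' : e x ∈ (Q : Subgroup K).map K.subtype := hx
  show e (a • x) ∈ (Q : Subgroup K).map K.subtype
  have := (Subgroup.mem_normalizer_iff.1 (hQ ⟨a, rfl⟩) (e x)).1 hx'
  convert this using 1
  rw [← map_inv]
  exact SemidirectProduct.inl_aut (φ := φ) a x

/-- No noncyclic group of order `p * q` acts fixed-point-freely on a nontrivial finite group. -/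
theorem IsFPF.isCyclic_of_card_eq_mul [Finite A] [Finite N] [Nontrivial N] (h : IsFPF A N)
    {p q : ℕ} (hp : p.Prime) (hq : q.Prime) (hA : Nat.card A = p * q) : IsCyclic A := by
  obtain ⟨r, hr, hrN⟩ := Nat.exists_prime_and_dvd
    (Finite.one_lt_card (α := N)).ne'
  haveI := Fact.mk hr
  obtain ⟨R, hR⟩ := h.exists_invariant_sylow r
  haveI : Nontrivial (R : Subgroup N) := (Subgroup.nontrivial_iff_ne_bot _).2
    (R.ne_bot_of_dvd_card hrN)
  haveI := R.isPGroup'.center_nontrivial
  let actR : MulDistribMulAction A (R : Subgroup N) :=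
    { smul := fun a x => ⟨a • (x : N), hR a x x.2⟩
      one_smul := fun x => Subtype.ext (one_smul A (x : N))
      mul_smul := fun a b x => Subtype.ext (mul_smul a b (x : N))
      smul_one := fun a => Subtype.ext (smul_one a)
      smul_mul := fun a x y => Subtype.ext (smul_mul' a (x : N) (y : N)) }
  let C := Subgroup.center (R : Subgroup N)
  letI : CommGroup C :=
    { (inferInstance : Group C) with mul_comm := fun a b => mul_comm' a b }
  have hinv : ∀ (a : A) (z : (R : Subgroup N)), z ∈ C → a • z ∈ C := by
    intro a z hz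
    rw [Subgroup.mem_center_iff] at hz ⊢
    intro w
    have := congrArg (fun t => a • t) (hz (a⁻¹ • w))
    simpa [smul_mul', smul_inv_smul] using this
  let actC : MulDistribMulAction A C :=
    { smul := fun a x => ⟨a • (x : (R : Subgroup N)), hinv a x x.2⟩
      one_smul := fun x => Subtype.ext (one_smul A (x : (R : Subgroup N)))
      mul_smul := fun a b x => Subtype.ext (mul_smul a b (x : (R : Subgroup N)))
      smul_one := fun a => Subtype.ext (smul_one a)
      smul_mul := fun a x y => Subtype.ext
        (smul_mul' a (x : (R : Subgroup N)) (y : (R : Subgroup N))) }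
  have hC : IsFPF A C := fun a ha z hz => by
    ext
    exact h a ha _ (congrArg (fun t : C => ((t : (R : Subgroup N)) : N)) hz)
  exact hC.isCyclic_of_card_eq_mul_comm hp hq hA

/-- An abelian group acting fixed-point-freely on a nontrivial finite group is cyclic. -/
theorem IsFPF.isCyclic_of_commutative [Finite A] [Finite N] [Nontrivial N] (h : IsFPF A N)
    [IsMulCommutative A] : IsCyclic A := by
  classical
  letI : CommGroup A := { (inferInstance : Group A) with mul_comm := fun a b => mul_comm' a b }
  have hker : ∀ p : ℕ, p.Prime → Nat.card (powMonoidHom p : A →* A).ker ≤ p := by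
    intro p hp
    haveI := Fact.mk hp
    by_contra hgt
    push Not at hgt
    have hP : IsPGroup p (powMonoidHom p : A →* A).ker := fun x =>
      ⟨1, by ext; have := MonoidHom.mem_ker.1 x.2; simpa using this⟩
    obtain ⟨n, hn⟩ := IsPGroup.iff_card.1 hP
    have h2 : 2 ≤ n := by
      by_contra hlt
      rw [hn] at hgt
      exact absurd (Nat.pow_le_pow_right hp.pos (by omega : n ≤ 1)) (by simpa using hgt)
    obtain ⟨U, hU⟩ := Sylow.exists_subgroup_card_pow_prime (G := (powMonoidHom p : A →* A).ker) p
      (n := 2) (by rw [hn]; exact pow_dvd_pow p h2)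
    let B : Subgroup A := U.map (powMonoidHom p : A →* A).ker.subtype
    have hB : Nat.card B = p * p := by
      rw [Subgroup.card_map_of_injective (Subgroup.subtype_injective _), hU, sq]
    letI : MulDistribMulAction B N := MulDistribMulAction.compHom N B.subtype
    have hcyc : IsCyclic B :=
      (h.comp B.subtype B.subtype_injective).isCyclic_of_card_eq_mul hp hp hB
    obtain ⟨b, hb⟩ := IsCyclic.exists_generator (α := B)
    have hord : orderOf b = p * p := by
      rw [orderOf_eq_card_of_forall_mem_zpowers hb, hB]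
    have hbp : b ^ p = 1 := by
      obtain ⟨u, -, hu⟩ := b.2
      ext
      rw [SubgroupClass.coe_pow, ← hu]
      have := MonoidHom.mem_ker.1 u.2
      simpa using this
    have := Nat.le_of_dvd hp.pos (hord ▸ orderOf_dvd_of_pow_eq_one hbp)
    nlinarith [hp.one_lt]
  haveI := Fintype.ofFinite A
  refine isCyclic_of_card_pow_eq_one_le fun n hn => ?_
  suffices hn' : Nat.card (powMonoidHom n : A →* A).ker ≤ n by
    refine le_trans (le_of_eq ?_) hn'
    rw [Nat.card_eq_fintype_card, ← Fintype.card_subtype]
    exact Fintype.card_congr (Equiv.subtypeEquivRight fun a => Iff.rfl)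
  induction n using Nat.strong_induction_on with
  | _ n ih => ?_
  rcases Nat.eq_or_lt_of_le (Nat.one_le_iff_ne_zero.2 hn.ne') with h1 | h1
  · subst h1
    have : (powMonoidHom 1 : A →* A).ker = ⊥ := by ext; simp
    rw [this, Subgroup.card_bot]
  obtain ⟨p, hp, m, rfl⟩ := Nat.exists_prime_and_dvd h1.ne'
  have hm : 0 < m := Nat.pos_of_mul_pos_left hn
  have hlt : m < p * m := by
    calc m = 1 * m := (one_mul m).symm
      _ < p * m := Nat.mul_lt_mul_of_pos_right hp.one_lt hm
  let f : (powMonoidHom (p * m) : A →* A).ker →* A :=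
    (powMonoidHom p).comp (powMonoidHom (p * m) : A →* A).ker.subtype
  rw [← f.ker.card_mul_index, Subgroup.index_ker]
  refine Nat.mul_le_mul (le_trans ?_ (hker p hp)) (le_trans ?_ (ih m hlt hm))
  · refine Nat.card_le_card_of_injective
      (fun x => (⟨((x : (powMonoidHom (p * m) : A →* A).ker) : A), x.2⟩ :
        (powMonoidHom p : A →* A).ker)) fun x y hxy => ?_
    exact Subtype.ext (Subtype.ext (congrArg Subtype.val hxy :))
  · refine Subgroup.card_le_of_le ?_
    rintro _ ⟨x, rfl⟩
    show ((x : A) ^ p) ^ m = 1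
    rw [← pow_mul]
    exact MonoidHom.mem_ker.1 x.2

/-- A Frobenius complement acts fixed-point-freely by conjugation on a normal complement. -/
theorem fpf_of_complement {G : Type*} [Group G] {H K : Subgroup G}
    (hH : Cfsg.IsFrobeniusComplement H) [hKn : K.Normal] (hdis : Disjoint K H) :
    @IsFPF H K _ _ (MulDistribMulAction.compHom K ((MulAut.conjNormal (H := K)).comp H.subtype)) := by
  intro a ha k hk
  have h1 : (a : G) * k * (a : G)⁻¹ = k := by
    have := congrArg Subtype.val hk
    exact this
  refine Subtype.ext (eq_one_of_commute hH hdis k.2 a.2 (fun e => ha (Subtype.ext e)) ?_)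
  show (a : G) * k = k * a
  exact mul_inv_eq_iff_eq_mul.1 h1

/-- Subgroups of order `p * q` of a Frobenius complement (with normal complement) are cyclic. -/
theorem isCyclic_le_complement_of_card_eq_mul {G : Type*} [Group G] [Finite G] {H K : Subgroup G}
    (hH : Cfsg.IsFrobeniusComplement H) [K.Normal] (hK : K.IsComplement' H) {L : Subgroup G}
    (hL : L ≤ H) {p q : ℕ} (hp : p.Prime) (hq : q.Prime) (hLc : Nat.card L = p * q) :
    IsCyclic L := by
  haveI : Nontrivial K := Finite.one_lt_card_iff_nontrivial.1
    (by rw [← hK.index_eq_card]; exact one_lt_index hH)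
  letI : MulDistribMulAction H K :=
    MulDistribMulAction.compHom K ((MulAut.conjNormal (H := K)).comp H.subtype)
  letI : MulDistribMulAction L K := MulDistribMulAction.compHom K (Subgroup.inclusion hL)
  exact ((fpf_of_complement hH hK.disjoint).comp (Subgroup.inclusion hL)
    (Subgroup.inclusion_injective hL)).isCyclic_of_card_eq_mul hp hq hLc

/-- Abelian subgroups of a Frobenius complement (with normal complement) are cyclic. -/
theorem isCyclic_le_complement_of_commutative {G : Type*} [Group G] [Finite G] {H K : Subgroup G}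
    (hH : Cfsg.IsFrobeniusComplement H) [K.Normal] (hK : K.IsComplement' H) {L : Subgroup G}
    (hL : L ≤ H) [IsMulCommutative L] : IsCyclic L := by
  haveI : Nontrivial K := Finite.one_lt_card_iff_nontrivial.1
    (by rw [← hK.index_eq_card]; exact one_lt_index hH)
  letI : MulDistribMulAction H K :=
    MulDistribMulAction.compHom K ((MulAut.conjNormal (H := K)).comp H.subtype)
  letI : MulDistribMulAction L K := MulDistribMulAction.compHom K (Subgroup.inclusion hL)
  exact ((fpf_of_complement hH hK.disjoint).comp (Subgroup.inclusion hL)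
    (Subgroup.inclusion_injective hL)).isCyclic_of_commutative

end CfsgLib.Frobenius
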