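import Cfsg.Agent.Lib.Frobenius.ZJComplement

/-!
# Thompson's theorem on fixed-point-free automorphisms of prime order: usable forms
-/

set_option autoImplicit false

namespace CfsgLib.Frobenius.Thompson

universe u

variable {G : Type u} [Group G] [Finite G]

/-- An automorphism of prime order fixing only `1`. -/
theorem isNilpotent_of_fixedPointFree (φ : G ≃* G) (hφ : ∀ x, φ x = x → x = 1) {p : ℕ}
    (hp : p.Prime) (hpow : ∀ x : G, (φ : G → G)^[p] x = x) : Group.IsNilpotent G := by
  refine CfsgLib.Frobenius.ZJComp.isNilpotent_of_isFixFree hp (φ := φ) ⟨?_, hφ⟩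
  ext x
  have key : ∀ n : ℕ, ∀ y : G, (φ ^ n) y = (φ : G → G)^[n] y := by
    intro n
    induction n with
    | zero => simp
    | succ n ih => intro y; rw [pow_succ, MulAut.mul_apply, ih, Function.iterate_succ_apply]
  rw [MulAut.one_apply, key, hpow]

/-- A subgroup normalised by an element of prime order whose centraliser in it is trivial. -/
theorem isNilpotent_of_element (N : Subgroup G) {h : G}
    (hN : h ∈ Subgroup.normalizer (N : Set G)) {p : ℕ} (hp : p.Prime) (hh : h ^ p = 1)
    (hfree : ∀ k ∈ N, h * k = k * h → k = 1) : Group.IsNilpotent N := by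
  have hinv : ∀ x ∈ N, MulAut.conj h x ∈ N := fun x hx =>
    (Subgroup.mem_normalizer_iff.1 hN x).1 hx
  refine CfsgLib.Frobenius.ZJComp.isNilpotent_of_isFixFree hp
    (φ := CfsgLib.Frobenius.Auto.restrict (MulAut.conj h) N hinv) ⟨?_, fun x hx => ?_⟩
  · have key : ∀ n : ℕ, ∀ x : N,
        (((CfsgLib.Frobenius.Auto.restrict (MulAut.conj h) N hinv) ^ n) x : G) =
          h ^ n * (x : G) * (h ^ n)⁻¹ := by
      intro n
      induction n with
      | zero => simp
      | succ n ih =>
        intro x
        rw [pow_succ', MulAut.mul_apply, CfsgLib.Frobenius.Auto.restrict_apply, ih,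
          MulAut.conj_apply]
        group
    ext x
    rw [key, hh]
    simp
  · have h1 : h * (x : G) * h⁻¹ = x := by
      have := congrArg Subtype.val hx
      rwa [CfsgLib.Frobenius.Auto.restrict_apply, MulAut.conj_apply] at this
    exact Subtype.ext (hfree x x.2 (mul_inv_eq_iff_eq_mul.1 h1))

/-- `MonoidHom.FixedPointFree` with the order. -/
theorem isNilpotent_of_orderOf (φ : G ≃* G) (hφ : MonoidHom.FixedPointFree (φ : G →* G)) {p : ℕ}
    (hp : p.Prime) (hord : orderOf φ = p) : Group.IsNilpotent G := by
  refine CfsgLib.Frobenius.ZJComp.isNilpotent_of_isFixFree hp (φ := φ) ⟨?_, fun x hx => ?_⟩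
  · rw [← hord]; exact pow_orderOf_eq_one φ
  · exact hφ x hx

end CfsgLib.Frobenius.Thompson
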