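import Cfsg.Agent.Lib.Frobenius.FPFBasic
import Cfsg.Agent.Lib.Transfer.NormalComplement
import Cfsg.Agent.Lib.PLocal.ZJ

/-!
# Fixed-point-free automorphisms of prime order: reduction of nilpotency to a normal complement
criterion
-/

set_option autoImplicit false
set_option linter.style.haveILetI false

namespace CfsgLib.Frobenius.Auto

universe u

/-- The normal `p`-complement criterion used: it suffices to test the normaliser of `Z(J(P))`. -/
def ZJCriterion : Prop :=
  ∀ (G : Type u) [Group G] [Finite G] (p : ℕ) [Fact p.Prime], p ≠ 2 → ∀ P : Sylow p G,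
    Cfsg.HasNormalPComplement p
      (Subgroup.normalizer (CfsgLib.PLocal.zj 0 (P : Subgroup G) : Set G)) →
    Cfsg.HasNormalPComplement p G

/-- A finite nilpotent group has a normal `p`-complement. -/
lemma hasNormalPComplement_of_isNilpotent {G : Type u} [Group G] [Finite G] [Group.IsNilpotent G]
    (p : ℕ) [hp : Fact p.Prime] : Cfsg.HasNormalPComplement p G := by
  by_cases hdvd : p ∣ Nat.card G
  · have hn : ∀ (q : ℕ) (_hq : Fact q.Prime) (P : Sylow q G), (P : Subgroup G).Normal :=
      ((Group.isNilpotent_of_finite_tfae (G := G)).out 0 3 rfl rfl).1 inferInstance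
    obtain ⟨e⟩ : Nonempty ((∀ q : (Nat.card G).primeFactors, ∀ P : Sylow q G,
        (P : Subgroup G)) ≃* G) :=
      ⟨Sylow.directProductOfNormal fun {q hq P} => hn q hq P⟩
    let i : (Nat.card G).primeFactors := ⟨p, Nat.mem_primeFactors.2 ⟨hp.out, hdvd, Nat.card_pos.ne'⟩⟩
    obtain ⟨P₀⟩ : Nonempty (Sylow (i : ℕ) G) := inferInstance
    let f : G →* (P₀ : Subgroup G) :=
      ((Pi.evalMonoidHom (fun P : Sylow (i : ℕ) G => (P : Subgroup G)) P₀).comp
        (Pi.evalMonoidHom (fun q : (Nat.card G).primeFactors =>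
          ∀ P : Sylow (q : ℕ) G, (P : Subgroup G)) i)).comp e.symm.toMonoidHom
    have hf : Function.Surjective f := by
      classical
      intro y
      refine ⟨e (Pi.mulSingle i (Pi.mulSingle P₀ y)), ?_⟩
      simp [f]
    have hidx : f.ker.index = Nat.card (P₀ : Subgroup G) := by
      rw [Subgroup.index_ker, MonoidHom.range_eq_top.2 hf, Subgroup.card_top]
    refine CfsgLib.Transfer.hasNormalPComplement_of_coprime f.ker ?_ ?_
    · have h1 := f.ker.card_mul_index
      rw [hidx, P₀.card_eq_multiplicity] at h1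
      intro hd
      refine Nat.pow_succ_factorization_not_dvd (Nat.card_pos (α := G)).ne' hp.out ?_
      refine Dvd.dvd.trans ?_ h1.dvd
      rw [pow_succ']
      exact mul_dvd_mul hd dvd_rfl
    · exact P₀.isPGroup'.of_equiv (QuotientGroup.quotientKerEquivOfSurjective f hf).symm
  · exact CfsgLib.Transfer.hasNormalPComplement_of_coprime ⊤ (by rwa [Subgroup.card_top])
      (IsPGroup.of_card (n := 0) (by rw [pow_zero, ← Subgroup.index, Subgroup.index_top]))

variable {G : Type u} [Group G] [Finite G] {r : ℕ} {φ : MulAut G}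

/-- The solvable case, by induction: `M` is an abelian invariant normal `q`-subgroup. -/
lemma isNilpotent_step (hr : r.Prime) (h : IsFixFree r φ)
    (ih : ∀ (H : Subgroup G), H ≠ ⊤ → (∀ x ∈ H, φ x ∈ H) → Group.IsNilpotent H)
    (ihq : ∀ (N : Subgroup G) [N.Normal], N ≠ ⊥ → (∀ x ∈ N, φ x ∈ N) → Group.IsNilpotent (G ⧸ N))
    {q : ℕ} [hq : Fact q.Prime] (M : Subgroup G) [M.Normal] [IsMulCommutative M]
    (hM : M ≠ ⊥) (hMq : IsPGroup q M) (hMinv : ∀ x ∈ M, φ x ∈ M) : Group.IsNilpotent G := by
  haveI hGM : Group.IsNilpotent (G ⧸ M) := ihq M hM hMinv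
  let f := QuotientGroup.mk' M
  have hfs : Function.Surjective f := QuotientGroup.mk'_surjective M
  have hnormal : ∀ (p : ℕ) [Fact p.Prime] (P : Sylow p G), ((P : Subgroup G) ⊔ M).Normal := by
    intro p _ P
    have h1 : ((P.mapSurjective hfs : Sylow p (G ⧸ M)) : Subgroup (G ⧸ M)).Normal := inferInstance
    rw [Sylow.coe_mapSurjective] at h1
    have h2 := h1.comap f
    rwa [Subgroup.comap_map_eq, show f.ker = M from QuotientGroup.ker_mk' M] at h2
  rw [(Group.isNilpotent_of_finite_tfae (G := G)).out 0 3 rfl rfl]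
  intro p hp P
  by_cases hpq : p = q
  · subst hpq
    have h1 := hnormal p P
    rwa [sup_eq_left.2 (hMq.le_sylow_of_normal P)] at h1
  obtain ⟨P₀, hP₀⟩ := exists_invariant_sylow h.2 p
  suffices hn : (P₀ : Subgroup G).Normal by
    haveI := hn
    obtain ⟨g, hg⟩ := MulAction.exists_smul_eq G P₀ P
    rw [← hg, Sylow.smul_eq_of_normal]
    exact hn
  let L := (P₀ : Subgroup G) ⊔ M
  haveI hLn : L.Normal := hnormal p P₀
  have hLinv : ∀ x ∈ L, φ x ∈ L := by
    intro x hx
    have : L.map φ.toMonoidHom = L := by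
      simp only [L, Subgroup.map_sup, map_eq hP₀, map_eq hMinv]
    rw [← this]; exact Subgroup.mem_map_of_mem φ.toMonoidHom hx
  by_cases hL : L = ⊤
  · -- the centraliser of `P₀` in `M` is central and nontrivial
    have hcop : (Nat.card (P₀ : Subgroup G)).Coprime (Nat.card M) := by
      obtain ⟨a, ha⟩ := P₀.isPGroup'.exists_card_eq
      obtain ⟨b, hb⟩ := hMq.exists_card_eq
      rw [ha, hb]
      exact ((Nat.coprime_primes hp.out hq.out).2 hpq).pow a b
    let C := M ⊓ Subgroup.centralizer ((P₀ : Subgroup G) : Set G)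
    have hC : C ≠ ⊥ := fun hC => hM (eq_bot_of_inf_centralizer hr h M (P₀ : Subgroup G)
      (le_top.trans (Subgroup.normalizer_eq_top M).ge) hMinv hP₀ hcop hC)
    have hCc : C ≤ Subgroup.center G := by
      intro c hc
      rw [Subgroup.mem_center_iff]
      intro g
      have hg : g ∈ Subgroup.centralizer ({c} : Set G) := by
        refine (sup_le ?_ ?_ : L ≤ Subgroup.centralizer ({c} : Set G)) (show g ∈ L by rw [hL]; exact Subgroup.mem_top g)
        · intro x hx
          rw [Subgroup.mem_centralizer_iff]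
          rintro _ rfl
          exact (Subgroup.mem_centralizer_iff.1 hc.2 x hx).symm
        · intro x hx
          rw [Subgroup.mem_centralizer_iff]
          rintro _ rfl
          exact congrArg Subtype.val
            ((IsMulCommutative.is_comm (M := M)).comm ⟨_, hc.1⟩ ⟨x, hx⟩)
      exact (Subgroup.mem_centralizer_iff.1 hg c rfl).symm
    have hCinv : ∀ x ∈ C, φ x ∈ C := by
      rintro x ⟨hx, hxc⟩
      refine ⟨hMinv x hx, Subgroup.mem_centralizer_iff.2 fun y hy => ?_⟩
      rw [← map_eq hP₀] at hy
      obtain ⟨y, hy, rfl⟩ := hy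
      show φ y * φ x = φ x * φ y
      rw [← map_mul, ← map_mul, Subgroup.mem_centralizer_iff.1 hxc y hy]
    haveI : C.Normal := ⟨fun c hc g => by
      rw [Subgroup.mem_center_iff.1 (hCc hc) g, mul_inv_cancel_right]; exact hc⟩
    haveI := ihq C hC hCinv
    haveI : Group.IsNilpotent G :=
      Subgroup.isNilpotent_of_ker_le_center (QuotientGroup.mk' C) (by rwa [QuotientGroup.ker_mk'])
    infer_instance
  · haveI := ih L hL hLinv
    have hPL : (P₀ : Subgroup G) ≤ L := le_sup_left
    haveI : (P₀.subtype hPL : Subgroup L).Normal := inferInstance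
    haveI : (P₀.subtype hPL : Subgroup L).Characteristic := Sylow.characteristic_of_normal _ inferInstance
    have h1 : ((P₀.subtype hPL : Subgroup L).map L.subtype).Normal :=
      ConjAct.normal_of_characteristic_of_normal
    rwa [Sylow.coe_subtype, Subgroup.map_subgroupOf_eq_of_le hPL] at h1

/-- Thompson's theorem, given the normal complement criterion. -/
theorem isNilpotent_of_criterion (crit : ZJCriterion.{u}) : ∀ (n : ℕ) {G : Type u} [Group G]
    [Finite G], Nat.card G ≤ n → ∀ {r : ℕ}, r.Prime → ∀ {φ : MulAut G}, IsFixFree r φ →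
      Group.IsNilpotent G := by
  intro n
  induction n with
  | zero =>
    intro G _ _ hc
    exact absurd hc (by have := Nat.card_pos (α := G); omega)
  | succ n IH =>
    intro G _ _ hc r hr φ h
    have ih : ∀ (H : Subgroup G), H ≠ ⊤ → (∀ x ∈ H, φ x ∈ H) → Group.IsNilpotent H := by
      intro H hH hinv
      refine IH ?_ hr (isFixFree_restrict h H hinv)
      have h2 := H.card_mul_index
      have h3 : 1 < H.index := Subgroup.one_lt_index_of_ne_top hH
      have h4 : 0 < Nat.card H := Nat.card_pos
      nlinarith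
    have ihq : ∀ (N : Subgroup G) [N.Normal], N ≠ ⊥ → (∀ x ∈ N, φ x ∈ N) →
        Group.IsNilpotent (G ⧸ N) := by
      intro N _ hN hinv
      refine IH ?_ hr (isFixFree_onQuotient h N hinv)
      have h1 : 2 ≤ Nat.card N := (Subgroup.one_lt_card_iff_ne_bot N).2 hN
      have h2 := N.card_mul_index
      have h3 : Nat.card (G ⧸ N) = N.index := rfl
      have h4 : 0 < Nat.card (G ⧸ N) := Nat.card_pos
      nlinarith
    by_cases hnt : Nontrivial G
    swap
    · haveI : Subsingleton G := not_nontrivial_iff_subsingleton.1 hnt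
      infer_instance
    by_cases h2 : IsPGroup 2 G
    · exact h2.isNilpotent
    obtain ⟨p, hp, hp2, hpdvd⟩ : ∃ p : ℕ, p.Prime ∧ p ≠ 2 ∧ p ∣ Nat.card G := by
      by_contra hno
      push Not at hno
      apply h2
      haveI : Fact (Nat.Prime 2) := ⟨Nat.prime_two⟩
      obtain ⟨m, k, hk, hG⟩ :=
        Nat.exists_eq_pow_mul_and_not_dvd (Nat.card_pos (α := G)).ne' 2 (by norm_num)
      have hk1 : k = 1 := by
        by_contra hne
        obtain ⟨q, hq, hqk⟩ := Nat.exists_prime_and_dvd hne
        exact hno q hq (fun e => hk (e ▸ hqk)) (hG ▸ dvd_mul_of_dvd_right hqk _)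
      exact IsPGroup.of_card (n := m) (by rw [hG, hk1, mul_one])
    haveI := Fact.mk hp
    obtain ⟨P, hP⟩ := exists_invariant_sylow h.2 p
    have hPne : (P : Subgroup G) ≠ ⊥ := P.ne_bot_of_dvd_card hpdvd
    let Z := CfsgLib.PLocal.zj 0 (P : Subgroup G)
    have hZne : Z ≠ ⊥ := by
      simp only [Z, CfsgLib.PLocal.zj_zero]
      exact CfsgLib.PLocal.centerJ_zero_ne_bot P.isPGroup' hPne
    have hZmap : Z.map φ.toMonoidHom = Z := by
      simp only [Z]
      rw [← CfsgLib.PLocal.zj_map (f := φ.toMonoidHom) φ.injective, map_eq hP]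
    have hZinv : ∀ x ∈ Z, φ x ∈ Z := fun x hx => hZmap ▸ Subgroup.mem_map_of_mem φ.toMonoidHom hx
    haveI hsol : Group.IsSolvable G := by
      let N := Subgroup.normalizer (Z : Set G)
      by_cases hN : N = ⊤
      · haveI : Z.Normal := Subgroup.normalizer_eq_top_iff.1 hN
        haveI := ihq Z hZne hZinv
        haveI : Group.IsSolvable Z := by
          haveI := (CfsgLib.PLocal.zj_elemAb 0 (P : Subgroup G)).1
          exact Group.isSolvable_of_comm fun a b => (IsMulCommutative.is_comm).comm a b
        exact (Group.isSolvable_iff_subgroup_quotient Z).2 ⟨inferInstance, inferInstance⟩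
      · have hNinv : ∀ x ∈ N, φ x ∈ N := by
          intro x hx
          have := Subgroup.le_normalizer_map (H := Z) φ.toMonoidHom
            (Subgroup.mem_map_of_mem φ.toMonoidHom hx)
          rwa [hZmap] at this
        haveI := ih N hN hNinv
        have hNc : Cfsg.HasNormalPComplement p N := hasNormalPComplement_of_isNilpotent p
        have hGc := crit G p hp2 P hNc
        let K := Cfsg.pResidual p G
        haveI : K.Normal := CfsgLib.Transfer.pResidual_normal
        have hK : K ≠ ⊤ := by
          intro hK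
          apply hPne
          have h1 := (CfsgLib.Transfer.hasNormalPComplement_iff_inf_eq_bot P).1 hGc
          rwa [show Cfsg.pResidual p G = ⊤ from hK, inf_top_eq] at h1
        haveI : K.Characteristic := CfsgLib.Transfer.pResidual_characteristic
        haveI := ih K hK (invariant_of_characteristic K)
        haveI : Group.IsSolvable (G ⧸ K) := by
          haveI := (CfsgLib.Transfer.isPGroup_quotient_of_pResidual_le K le_rfl).isNilpotent
          infer_instance
        exact (Group.isSolvable_iff_subgroup_quotient K).2 ⟨inferInstance, inferInstance⟩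
    obtain ⟨q, hq, -, hQ⟩ := CfsgLib.Fitting.exists_pCore_ne_bot (G := G)
    haveI := Fact.mk hq
    let Q := Cfsg.pCore q G
    haveI : Q.Characteristic := CfsgLib.Fitting.pCore_characteristic q
    let M := (Subgroup.center Q).map Q.subtype
    haveI hMc : IsMulCommutative M := ⟨⟨by
      rintro ⟨_, a, ha, rfl⟩ ⟨_, b, hb, rfl⟩
      refine Subtype.ext ?_
      have e := congrArg Subtype.val (Subgroup.mem_center_iff.1 hb a)
      exact e⟩⟩
    haveI : M.Normal := ConjAct.normal_of_characteristic_of_normal
    have hQp : IsPGroup q Q := CfsgLib.Fitting.pCore_isPGroup q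
    have hM : M ≠ ⊥ := by
      intro hM
      haveI : Nontrivial Q := (Subgroup.nontrivial_iff_ne_bot Q).2 hQ
      exact hQp.bot_lt_center.ne'
        ((Subgroup.map_eq_bot_iff_of_injective _ Q.subtype_injective).1 hM)
    have hMinv : ∀ x ∈ M, φ x ∈ M := by
      have hQm := map_eq (invariant_of_characteristic (φ := φ) Q)
      rintro _ ⟨⟨x, hx⟩, hxc, rfl⟩
      refine ⟨⟨φ x, invariant_of_characteristic Q x hx⟩, Subgroup.mem_center_iff.2 ?_, rfl⟩
      rintro ⟨y, hy⟩
      rw [← hQm] at hy
      obtain ⟨y, hy', rfl⟩ := hy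
      refine Subtype.ext ?_
      show φ y * φ x = φ x * φ y
      rw [← map_mul, ← map_mul, show y * x = x * y from
        congrArg Subtype.val (Subgroup.mem_center_iff.1 hxc ⟨y, hy'⟩)]
    exact isNilpotent_step hr h ih ihq M hM (hQp.to_le (Subgroup.map_subtype_le _)) hMinv

end CfsgLib.Frobenius.Auto
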