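import Cfsg.Agent.Lib.Frobenius.QuadraticAbelian
import Cfsg.Agent.Lib.Frobenius.FPFNilpotent
import Cfsg.Agent.Lib.PLocal.PStableQuot
import Cfsg.Agent.Lib.PCore.PSolvable
import Cfsg.Agent.Lib.Transfer.NormalComplement
import Cfsg.Agent.Lib.Coprime.Action

/-!
# Glauberman's normal `p`-complement theorem

For odd `p`: if the normaliser of `Z(J(P))` (or of `Ω₁(Z(J_e(P)))`) has a normal `p`-complement,
so has the group. The induction is stated for an arbitrary functor on subgroups, so that only the
normality in the reduced `p`-solvable configuration has to be supplied.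
-/

set_option autoImplicit false
set_option linter.style.haveILetI false
open scoped commutatorElement

namespace CfsgLib.Frobenius.ZJComp

open CfsgLib

universe u

section Stable

variable {G : Type u} [Group G] [Finite G] {p : ℕ} [hp : Fact p.Prime]

/-- Modulo a normal `p`-group `O`, an abelian `p'`-group extended by a `p`-group: every normal
subgroup of `O` is stable, for odd `p`. -/
theorem isPStableOn_of_abelian_quotient (hp2 : p ≠ 2) (O M : Subgroup G) [O.Normal] [M.Normal]
    (hO : IsPGroup p O) (hab : ⁅M, M⁆ ≤ O) (hidx : (O.relIndex M).Coprime p)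
    (hq : IsPGroup p (G ⧸ M)) (V : Subgroup G) [V.Normal] (hV : V ≤ O) :
    Cfsg.IsPStableOn p V := by
  refine PLocal.isPStableOn_of_pElements (hO.to_le hV) fun a ⟨k, hk⟩ ha => ?_
  let C := Subgroup.centralizer (V : Set G)
  let D := PLocal.stabD p V
  let q := QuotientGroup.mk' C
  have hqs : Function.Surjective q := QuotientGroup.mk'_surjective C
  haveI hDn : D.Normal := PLocal.stabD_normal p V
  have hOD : O ≤ D := by
    intro x hx
    exact PCore.le_pCore (Subgroup.Normal.map inferInstance q hqs) (hO.map q)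
      (Subgroup.mem_map_of_mem q hx)
  -- `a` centralises `M` modulo `D`
  let T := (Subgroup.centralizer ({QuotientGroup.mk' D a} : Set (G ⧸ D))).comap (QuotientGroup.mk' D)
  have hT : ∀ m, m ∈ T ↔ ⁅a, m⁆ ∈ D := by
    intro m
    rw [← QuotientGroup.eq_one_iff (N := D), ← QuotientGroup.mk'_apply, map_commutatorElement,
      commutatorElement_eq_one_iff_mul_comm, Subgroup.mem_comap, Subgroup.mem_centralizer_iff]
    simp
  have hMT : ∀ m ∈ M, ⁅a, m⁆ ∈ D := by
    intro m hm
    rw [← hT]
    have hkm : m ^ O.relIndex M ∈ T := by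
      rw [hT]
      have h1 : m ^ O.relIndex M ∈ O :=
        Subgroup.mem_subgroupOf.1 (Subgroup.pow_index_mem (O.subgroupOf M) ⟨m, hm⟩)
      exact Subgroup.commutator_le_right ⊤ D
        (Subgroup.commutator_mem_commutator (Subgroup.mem_top a) (hOD h1))
    obtain ⟨i, j, hj, hord⟩ :=
      Nat.exists_eq_pow_mul_and_not_dvd (orderOf_pos m).ne' p hp.out.ne_one
    have him : m ^ p ^ i ∈ T := by
      rw [hT]
      refine QuadAb.commutator_mem_stabD hp2 O M hO hab (pow_mem hm _) ?_ V hV ha
      rw [orderOf_pow, hord, Nat.gcd_mul_right_left,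
        Nat.mul_div_cancel_left _ (pow_pos hp.out.pos i)]
      exact (hp.out.coprime_iff_not_dvd.2 hj).symm
    have hg : Nat.gcd (O.relIndex M) (p ^ i) = 1 := hidx.pow_right i
    have hb := Nat.gcd_eq_gcd_ab (O.relIndex M) (p ^ i)
    rw [hg] at hb
    have e : m = (m ^ O.relIndex M) ^ Nat.gcdA (O.relIndex M) (p ^ i) *
        (m ^ (p ^ i)) ^ Nat.gcdB (O.relIndex M) (p ^ i) := by
      rw [← zpow_natCast m (O.relIndex M), ← zpow_natCast m (p ^ i), ← zpow_mul, ← zpow_mul,
        ← zpow_add, ← hb]
      simp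
    rw [e]
    exact mul_mem (zpow_mem hkm _) (zpow_mem him _)
  -- all conjugates of `a` lie in `C ⊔ S`
  obtain ⟨S, hS⟩ := (IsPGroup.of_card (n := k)
    (by rw [Nat.card_zpowers, hk]) : IsPGroup p (Subgroup.zpowers a)).exists_le_sylow
  have haS : a ∈ (S : Subgroup G) := hS (Subgroup.mem_zpowers a)
  let W := C ⊔ (S : Subgroup G)
  have hDW : D ≤ W := (PLocal.stabD_le_sup V S).trans (sup_le_sup_left inf_le_left _)
  have hSW : (S : Subgroup G) ≤ W := le_sup_right
  have hconj : ∀ g : G, g * a * g⁻¹ ∈ W := by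
    intro g
    have hg : g ∈ (S : Subgroup G) ⊔ M := by
      rw [Transfer.sylow_sup_eq_top S M hq]; exact Subgroup.mem_top g
    rw [← SetLike.mem_coe, Subgroup.mul_normal] at hg
    obtain ⟨s, hs, m, hm, rfl⟩ := hg
    have h1 : m * a * m⁻¹ * a⁻¹ ∈ D := by
      have := inv_mem (hMT m hm)
      rwa [commutatorElement_inv, commutatorElement_def] at this
    have h2 : m * a * m⁻¹ ∈ W := by
      have := mul_mem (hDW h1) (hSW haS)
      rwa [inv_mul_cancel_right] at this
    have h3 := mul_mem (mul_mem (hSW hs) h2) (inv_mem (hSW hs))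
    show s * m * a * (s * m)⁻¹ ∈ W
    rw [show s * m * a * (s * m)⁻¹ = s * (m * a * m⁻¹) * s⁻¹ by group]
    exact h3
  have hN : Subgroup.normalClosure ({a} : Set G) ≤ W := by
    refine (Subgroup.closure_le W).2 fun x hx => ?_
    obtain ⟨y, rfl, hy⟩ := Group.mem_conjugatesOfSet_iff.1 hx
    obtain ⟨g, rfl⟩ := isConj_iff.1 hy
    exact hconj g
  have hWp : IsPGroup p (W.map q) := by
    rw [Subgroup.map_sup, QuotientGroup.map_mk'_self, bot_sup_eq]
    exact S.isPGroup'.map q
  exact PCore.le_pCore (Subgroup.Normal.map inferInstance q hqs)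
    (hWp.to_le (Subgroup.map_mono hN))
    (Subgroup.mem_map_of_mem q (Subgroup.subset_normalClosure (Set.mem_singleton a)))

end Stable

section Aux

variable {G : Type u} [Group G] [Finite G] {p : ℕ} [hp : Fact p.Prime]

theorem normalizer_map_le {H : Type u} [Group H] (f : H →* G) (Z : Subgroup H) :
    (Subgroup.normalizer (Z : Set H)).map f ≤ Subgroup.normalizer ((Z.map f : Subgroup G) : Set G) :=
  Subgroup.le_normalizer_map f

theorem zj_ne_bot {e : ℕ} (he : e = 0 ∨ e = p) {P : Subgroup G} (hP : IsPGroup p P)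
    (hne : P ≠ ⊥) : PLocal.zj e P ≠ ⊥ := by
  intro h0
  haveI : Nontrivial P := (Subgroup.nontrivial_iff_ne_bot P).2 hne
  haveI : Nontrivial (Subgroup.center P) := hP.center_nontrivial
  have hdvd : p ∣ Nat.card (Subgroup.center P) := by
    obtain ⟨n, hn⟩ := (hP.to_subgroup (Subgroup.center P)).exists_card_eq
    rw [hn]
    refine dvd_pow_self p fun hn0 => ?_
    rw [hn0, pow_zero] at hn
    exact absurd hn (Finite.one_lt_card (α := Subgroup.center P)).ne'
  obtain ⟨⟨z, hzc⟩, hz⟩ := exists_prime_orderOf_dvd_card' p hdvd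
  rw [← Subgroup.orderOf_coe] at hz
  have hz' : orderOf (z : G) = p := by rw [Subgroup.orderOf_coe]; exact hz
  have hze : (z : G) ^ e = 1 := by
    rcases he with rfl | rfl
    · exact pow_zero _
    · rw [← hz']; exact pow_orderOf_eq_one _
  have hmem : (z : G) ∈ PLocal.zj e P := by
    rw [PLocal.zj_eq_sInf, Subgroup.mem_sInf]
    intro A hA
    refine hA.mem_of_centralizes z.2 hze fun a haA => ?_
    exact congrArg Subtype.val (Subgroup.mem_center_iff.1 hzc ⟨a, hA.le haA⟩)
  rw [h0, Subgroup.mem_bot] at hmem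
  rw [hmem, orderOf_one] at hz'
  exact hp.out.ne_one hz'.symm

theorem factorization_card_lt {S : Subgroup G} (hS : IsPGroup p S) {H K : Subgroup G}
    (hH : Nat.card S = p ^ (Nat.card H).factorization p) {T : Subgroup G} (hT : IsPGroup p T)
    (hTK : T ≤ K) (hlt : Nat.card S < Nat.card T) :
    (Nat.card H).factorization p < (Nat.card K).factorization p := by
  obtain ⟨n, hn⟩ := hT.exists_card_eq
  have h1 : n ≤ (Nat.card K).factorization p := by
    rw [← Nat.Prime.pow_dvd_iff_le_factorization hp.out Nat.card_pos.ne']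
    exact hn ▸ Subgroup.card_dvd_of_le hTK
  rw [hH, hn, Nat.pow_lt_pow_iff_right hp.out.one_lt] at hlt
  omega

theorem hasNormalPComplement_of_quotient (K : Subgroup G) [K.Normal]
    (hK : (Nat.card K).Coprime p) (h : Cfsg.HasNormalPComplement p (G ⧸ K)) :
    Cfsg.HasNormalPComplement p G := by
  haveI : (Cfsg.pResidual p (G ⧸ K)).Normal := Transfer.pResidual_normal
  rw [Transfer.hasNormalPComplement_iff] at h ⊢
  intro hd
  have hle : Cfsg.pResidual p G ≤ (Cfsg.pResidual p (G ⧸ K)).comap (QuotientGroup.mk' K) :=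
    Transfer.pResidual_le_iff.2 fun x hx =>
      Transfer.mem_pResidual (hx.coprime_dvd_left (orderOf_map_dvd _ x))
  have hd2 := hd.trans (Subgroup.card_dvd_of_le hle)
  rw [PCore.card_comap_mk'] at hd2
  rcases hp.out.dvd_mul.1 hd2 with h1 | h1
  · exact (hp.out.coprime_iff_not_dvd.1 hK.symm) h1
  · exact h h1

end Aux

/-- The properties of a functor on subgroups needed by the induction. -/
structure IsZFunctor (p : ℕ) (Z : ∀ {G : Type u} [Group G], Subgroup G → Subgroup G) : Prop where
  ne_bot : ∀ {G : Type u} [Group G] [Finite G] (P : Subgroup G), IsPGroup p P → P ≠ ⊥ → Z P ≠ ⊥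
  le : ∀ {G : Type u} [Group G] (P : Subgroup G), Z P ≤ P
  map : ∀ {G H : Type u} [Group G] [Finite G] [Group H] (f : G →* H) (P : Subgroup G),
    Function.Injective (f.comp P.subtype) → Z (P.map f) = (Z P).map f
  normal : ∀ {G : Type u} [Group G] [Finite G] (P : Sylow p G) (M : Subgroup G) [M.Normal],
    Cfsg.pCore p G ≤ M → ⁅M, M⁆ ≤ Cfsg.pCore p G → ((Cfsg.pCore p G).relIndex M).Coprime p →
    IsPGroup p (G ⧸ M) →
    Subgroup.centralizer (Cfsg.pCore p G : Set G) ≤ Cfsg.pCore p G →
    (∀ L : Subgroup G, (P : Subgroup G) ≤ L → L ≠ ⊤ → L = P) → (Z (P : Subgroup G)).Normal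

/-- The same on a class of groups closed under subgroups and quotients, with functoriality only on
`p`-subgroups. -/
structure IsZFunctorOn (p : ℕ) (Φ : ∀ (G : Type u) [Group G], Prop)
    (Z : ∀ {G : Type u} [Group G], Subgroup G → Subgroup G) : Prop where
  subgroup : ∀ {G : Type u} [Group G] (H : Subgroup G), Φ G → Φ H
  quotient : ∀ {G : Type u} [Group G] (N : Subgroup G) [N.Normal], Φ G → Φ (G ⧸ N)
  ne_bot : ∀ {G : Type u} [Group G] [Finite G] (P : Subgroup G), IsPGroup p P → P ≠ ⊥ → Z P ≠ ⊥
  le : ∀ {G : Type u} [Group G] (P : Subgroup G), Z P ≤ P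
  map : ∀ {G H : Type u} [Group G] [Finite G] [Group H] (f : G →* H) (P : Subgroup G),
    IsPGroup p P → Function.Injective (f.comp P.subtype) → Z (P.map f) = (Z P).map f
  normal : ∀ {G : Type u} [Group G] [Finite G] (P : Sylow p G) (M : Subgroup G) [M.Normal],
    Φ G → Cfsg.pCore p G ≤ M → ⁅M, M⁆ ≤ Cfsg.pCore p G →
    ((Cfsg.pCore p G).relIndex M).Coprime p → IsPGroup p (G ⧸ M) →
    Subgroup.centralizer (Cfsg.pCore p G : Set G) ≤ Cfsg.pCore p G →
    (∀ L : Subgroup G, (P : Subgroup G) ≤ L → L ≠ ⊤ → L = P) → (Z (P : Subgroup G)).Normal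

variable {p : ℕ} [hp : Fact p.Prime] {Z : ∀ {G : Type u} [Group G], Subgroup G → Subgroup G}

/-- `N(P) ≤ N(Z P)`, from functoriality. -/
theorem IsZFunctor.normalizer_le (hZ : IsZFunctor p Z) {G : Type u} [Group G] [Finite G]
    (P : Subgroup G) :
    Subgroup.normalizer (P : Set G) ≤ Subgroup.normalizer (Z P : Set G) := by
  intro g hg
  rw [Subgroup.mem_normalizer_iff_map_conj_eq] at hg ⊢
  rw [← hZ.map (MulAut.conj g : G →* G) P
    ((MulAut.conj g).injective.comp P.subtype_injective), hg]

/-- A functor in the stronger sense is one on every class. -/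
theorem IsZFunctor.toOn (hZ : IsZFunctor p Z) : IsZFunctorOn p (fun _ _ => True) Z where
  subgroup _ _ := trivial
  quotient _ _ _ := trivial
  ne_bot := hZ.ne_bot
  le := hZ.le
  map f P _ hf := hZ.map f P hf
  normal P M _ _ := hZ.normal P M

variable {Φ : ∀ (G : Type u) [Group G], Prop}

/-- `N(P) ≤ N(Z P)` for `p`-subgroups. -/
theorem IsZFunctorOn.normalizer_le (hZ : IsZFunctorOn p Φ Z) {G : Type u} [Group G] [Finite G]
    {P : Subgroup G} (hP : IsPGroup p P) :
    Subgroup.normalizer (P : Set G) ≤ Subgroup.normalizer (Z P : Set G) := by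
  intro g hg
  rw [Subgroup.mem_normalizer_iff_map_conj_eq] at hg ⊢
  rw [← hZ.map (MulAut.conj g : G →* G) P hP
    ((MulAut.conj g).injective.comp P.subtype_injective), hg]

set_option maxHeartbeats 1000000 in
/-- The induction. -/
theorem hasNormalPComplement_aux (hZ : IsZFunctorOn p Φ Z) : ∀ (n : ℕ) {G : Type u} [Group G]
    [Finite G], Nat.card G = n → Φ G → ∀ P : Sylow p G,
      Cfsg.HasNormalPComplement p (Subgroup.normalizer (Z (P : Subgroup G) : Set G)) →
      Cfsg.HasNormalPComplement p G := by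
  intro n
  induction n using Nat.strong_induction_on with
  | _ n IH =>
  intro G _ _ hn hΦ P hP
  subst hn
  by_contra hno
  -- proper subgroups whose Sylow functor normaliser is good
  have hsub : ∀ H : Subgroup G, H ≠ ⊤ → ∀ S : Sylow p H,
      Cfsg.HasNormalPComplement p
        (Subgroup.normalizer (Z ((S : Subgroup H).map H.subtype) : Set G)) →
      Cfsg.HasNormalPComplement p H := by
    intro H hH S h
    refine IH (Nat.card H) (lt_of_le_of_ne (Subgroup.card_le_card_group H) fun h' =>
      hH (Subgroup.eq_top_of_card_eq H h')) rfl (hZ.subgroup H hΦ) S ?_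
    rw [hZ.map H.subtype _ S.isPGroup' (H.subtype_injective.comp (Subgroup.subtype_injective _))] at h
    refine Transfer.hasNormalPComplement_of_injective
      ((H.subtype.comp (Subgroup.normalizer (Z (S : Subgroup H) : Set H)).subtype).codRestrict
        (Subgroup.normalizer (((Z (S : Subgroup H)).map H.subtype : Subgroup G) : Set G))
        fun x => normalizer_map_le H.subtype _ (Subgroup.mem_map_of_mem H.subtype x.2)) ?_ h
    intro x y hxy
    have h0 := congrArg Subtype.val hxy
    have h' : ((x : H) : G) = ((y : H) : G) := h0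
    exact Subtype.ext (Subtype.ext h')
  -- a proper subgroup containing `P`
  have hsubP : ∀ H : Subgroup G, (P : Subgroup G) ≤ H → H ≠ ⊤ → Cfsg.HasNormalPComplement p H := by
    intro H hle hH
    refine hsub H hH (P.subtype hle) ?_
    rwa [Sylow.coe_subtype, Subgroup.map_subgroupOf_eq_of_le hle]
  -- some nontrivial `p`-subgroup is normal
  have hOne : Cfsg.pCore p G ≠ ⊥ := by
    classical
    have hex : ∃ X : Subgroup G, IsPGroup p X ∧ X ≠ ⊥ ∧
        ¬ Cfsg.HasNormalPComplement p (Subgroup.normalizer (X : Set G)) := by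
      by_contra hall
      push Not at hall
      refine hno (Transfer.hasNormalPComplement_of_frobeniusCond fun Q hQ g hg hc => ?_)
      by_cases hQ0 : Q = ⊥
      · subst hQ0
        rw [Subgroup.mem_centralizer_iff]
        intro x hx
        rw [Subgroup.coe_bot, Set.mem_singleton_iff] at hx
        simp [hx]
      · have h1 := Transfer.frobeniusCond_of_hasNormalPComplement (hall Q hQ hQ0)
          (Q.subgroupOf (Subgroup.normalizer (Q : Set G))) (hQ.comap_subtype) ⟨g, hg⟩
          (by rw [Subgroup.mem_normalizer_iff]; exact fun x => Subgroup.mem_normalizer_iff.1 hg x)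
          (by rwa [Subgroup.orderOf_mk])
        rw [Subgroup.mem_centralizer_iff] at h1 ⊢
        intro x hx
        exact congrArg Subtype.val (h1 ⟨x, Subgroup.le_normalizer hx⟩ hx)
    obtain ⟨X, ⟨hXp, hX0, hXno⟩, hmax⟩ := Set.exists_max_image
      {X : Subgroup G | IsPGroup p X ∧ X ≠ ⊥ ∧
        ¬ Cfsg.HasNormalPComplement p (Subgroup.normalizer (X : Set G))}
      (fun X => (Nat.card (Subgroup.normalizer (X : Set G))).factorization p) (Set.toFinite _) hex
    let N := Subgroup.normalizer (X : Set G)
    by_cases hN : N = ⊤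
    · intro h0
      exact hX0 (le_bot_iff.1 (h0 ▸ PCore.le_pCore (Subgroup.normalizer_eq_top_iff.1 hN) hXp))
    exfalso
    obtain ⟨S⟩ : Nonempty (Sylow p N) := inferInstance
    refine hXno (hsub N hN S ?_)
    let S' := (S : Subgroup N).map N.subtype
    have hS'p : IsPGroup p S' := S.isPGroup'.map _
    have hS'card : Nat.card S' = p ^ (Nat.card N).factorization p := by
      rw [Subgroup.card_map_of_injective N.subtype_injective]; exact S.card_eq_multiplicity
    obtain ⟨R, hR⟩ := hS'p.exists_le_sylow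
    rcases eq_or_lt_of_le hR with heq | hlt
    · -- conjugate to the given one
      obtain ⟨g, hg⟩ := MulAction.exists_smul_eq G P R
      have hmap : Z S' = (Z (P : Subgroup G)).map (MulAut.conj g : G →* G) := by
        rw [← hZ.map (MulAut.conj g : G →* G) (P : Subgroup G) P.isPGroup'
          ((MulAut.conj g).injective.comp (Subgroup.subtype_injective _))]
        rw [heq, ← hg, Sylow.coe_subgroup_smul]
        rfl
      show Cfsg.HasNormalPComplement p (Subgroup.normalizer (Z S' : Set G))
      rw [hmap, show (MulAut.conj g : G →* G) = (MulAut.conj g).toMonoidHom from rfl,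
        ← Subgroup.map_equiv_normalizer_eq]
      exact Transfer.hasNormalPComplement_of_mulEquiv
        (Subgroup.equivMapOfInjective _ (MulAut.conj g : G →* G) (MulAut.conj g).injective) hP
    · by_contra hbad
      have hS'0 : S' ≠ ⊥ := by
        intro h0
        have h1 : X.subgroupOf N ≤ ⊥ := by
          obtain ⟨S₂, hS₂⟩ := (hXp.comap_subtype (K := N)).exists_le_sylow
          obtain ⟨k, hk⟩ := MulAction.exists_smul_eq N S S₂
          refine hS₂.trans ?_
          rw [← hk, Sylow.coe_subgroup_smul,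
            (Subgroup.map_eq_bot_iff_of_injective _ N.subtype_injective).1 h0]
          simp
        refine hX0 ?_
        rw [le_bot_iff, Subgroup.subgroupOf_eq_bot, disjoint_iff,
          inf_eq_left.2 Subgroup.le_normalizer] at h1
        exact h1
      have hZ0 : Z S' ≠ ⊥ := hZ.ne_bot S' hS'p hS'0
      have h3 := hmax (Z S') ⟨hS'p.to_le (hZ.le S'), hZ0, hbad⟩
      have hRnc : NormalizerCondition (R : Subgroup G) :=
        haveI := R.isPGroup'.isNilpotent
        Group.normalizerCondition_of_isNilpotent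
      have hne : S'.subgroupOf (R : Subgroup G) < ⊤ := by
        rw [lt_top_iff_ne_top, Ne, Subgroup.subgroupOf_eq_top]
        exact fun h => hlt.not_ge h
      let T := (Subgroup.normalizer (S'.subgroupOf (R : Subgroup G) : Set (R : Subgroup G))).map
        (R : Subgroup G).subtype
      have hT : T ≤ Subgroup.normalizer (Z S' : Set G) := by
        refine le_trans ?_ (hZ.normalizer_le hS'p)
        refine (normalizer_map_le _ _).trans ?_
        rw [Subgroup.map_subgroupOf_eq_of_le hR]
      have hcard : Nat.card S' < Nat.card T := by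
        have h4 := hRnc _ hne
        have h5 : (S'.subgroupOf (R : Subgroup G)).map (R : Subgroup G).subtype < T :=
          Subgroup.map_subtype_lt_map_subtype.2 h4
        rw [Subgroup.map_subgroupOf_eq_of_le hR] at h5
        exact lt_of_not_ge fun h => h5.ne (Subgroup.eq_of_le_of_card_ge h5.le h)
      have := factorization_card_lt hS'p hS'card (R.isPGroup'.to_le (Subgroup.map_subtype_le _))
        hT hcard
      exact absurd h3 (by exact this.not_ge)
  -- `O_{p'}` is trivial
  have hcore : Cfsg.pPrimeCore p G = ⊥ := by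
    by_contra hK
    have hKc : (Nat.card (Cfsg.pPrimeCore p G)).Coprime p := PCore.pPrimeCore_coprime
    let q := QuotientGroup.mk' (Cfsg.pPrimeCore p G)
    have hqs : Function.Surjective q := QuotientGroup.mk'_surjective _
    refine hno (hasNormalPComplement_of_quotient _ hKc ?_)
    refine IH (Nat.card (G ⧸ Cfsg.pPrimeCore p G)) ?_ rfl (hZ.quotient _ hΦ) (P.mapSurjective hqs) ?_
    · have h1 := (Cfsg.pPrimeCore p G).card_mul_index
      have h2 := (Subgroup.one_lt_card_iff_ne_bot _).2 hK
      have h3 : 0 < Nat.card (G ⧸ Cfsg.pPrimeCore p G) := Nat.card_pos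
      rw [Subgroup.index] at h1
      nlinarith
    · have hinj : Function.Injective (q.comp (P : Subgroup G).subtype) := by
        rw [injective_iff_map_eq_one]
        intro x hx
        exact Subtype.ext (PLocal.eq_one_of_mem_pGroup_of_mem_coprime P.isPGroup' hKc x.2
          ((QuotientGroup.eq_one_iff (x : G)).mp hx))
      rw [Sylow.coe_mapSurjective, hZ.map q _ P.isPGroup' hinj]
      exact Transfer.hasNormalPComplement_of_surjective _
        (PLocal.normalizerMap_surjective hKc (P.isPGroup'.to_le (hZ.le _))) hP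
  let O := Cfsg.pCore p G
  haveI : O.Normal := Cfsg.pCore_normal p G
  have hOp : IsPGroup p O := PCore.pCore_isPGroup
  have hOP : O ≤ (P : Subgroup G) := PCore.pCore_le_sylow P
  let q := QuotientGroup.mk' O
  have hqs : Function.Surjective q := QuotientGroup.mk'_surjective _
  -- `G / O` has a normal `p`-complement
  have hbar : Cfsg.HasNormalPComplement p (G ⧸ O) := by
    let Pb := P.mapSurjective hqs
    by_cases hPb : (Pb : Subgroup (G ⧸ O)) = ⊥
    · exact (Transfer.hasNormalPComplement_iff_inf_eq_bot Pb).2 (by rw [hPb, bot_inf_eq])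
    refine IH (Nat.card (G ⧸ O)) ?_ rfl (hZ.quotient O hΦ) Pb ?_
    · have h1 := O.card_mul_index
      have h2 := (Subgroup.one_lt_card_iff_ne_bot O).2 hOne
      have h3 : 0 < Nat.card (G ⧸ O) := Nat.card_pos
      rw [Subgroup.index] at h1
      nlinarith
    let Nb := Subgroup.normalizer (Z (Pb : Subgroup (G ⧸ O)) : Set (G ⧸ O))
    let L := Nb.comap q
    have hPL : (P : Subgroup G) ≤ L := by
      refine Subgroup.map_le_iff_le_comap.1 ?_
      rw [← Sylow.coe_mapSurjective hqs]
      exact Subgroup.le_normalizer.trans (hZ.normalizer_le Pb.isPGroup')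
    have hL : L ≠ ⊤ := by
      intro h0
      have h1 : Nb = ⊤ := by
        rw [← Subgroup.map_comap_eq_self_of_surjective hqs Nb, show Nb.comap q = ⊤ from h0,
          Subgroup.map_top_of_surjective q hqs]
      refine hZ.ne_bot _ Pb.isPGroup' hPb (le_bot_iff.1 ?_)
      refine le_trans (PCore.le_pCore (p := p) (Subgroup.normalizer_eq_top_iff.1 h1)
        (Pb.isPGroup'.to_le (hZ.le _))) ?_
      exact (PCore.pCore_quotient_pCore).le
    have hLc := hsubP L hPL hL
    refine Transfer.hasNormalPComplement_of_surjective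
      ((q.comp L.subtype).codRestrict Nb fun x => x.2) ?_ hLc
    rintro ⟨y, hy⟩
    obtain ⟨x, rfl⟩ := hqs y
    exact ⟨⟨x, hy⟩, rfl⟩
  haveI : (Cfsg.pResidual p (G ⧸ O)).Normal := Transfer.pResidual_normal
  let Kb := Cfsg.pResidual p (G ⧸ O)
  have hKb : ¬ p ∣ Nat.card Kb := Transfer.hasNormalPComplement_iff.1 hbar
  let M := Kb.comap q
  have hOM : O ≤ M := by
    intro x hx
    show q x ∈ Kb
    rw [show q x = 1 from (QuotientGroup.eq_one_iff x).2 hx]
    exact one_mem _
  have hidx : (O.relIndex M).Coprime p := by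
    rw [← PCore.card_map_mk', Subgroup.map_comap_eq_self_of_surjective hqs]
    exact PCore.coprime_of_not_dvd_card hKb
  have hqM : IsPGroup p (G ⧸ M) := by
    intro x
    induction x using QuotientGroup.induction_on with
    | H y =>
      obtain ⟨k, hk⟩ := Transfer.exists_pow_mem_pResidual (p := p) (q y)
      refine ⟨k, ?_⟩
      rw [← QuotientGroup.mk_pow, QuotientGroup.eq_one_iff]
      show q (y ^ p ^ k) ∈ Kb
      rwa [map_pow]
  -- `G` is `p`-solvable
  have hsolv : Cfsg.IsPSolvable p G := by
    rw [PCore.isPSolvable_iff_upperPSeries]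
    refine ⟨0 + 2 + 2 + 2, top_le_iff.1 ?_⟩
    refine PCore.le_upperPSeries_add_two (A := M) (PCore.le_upperPSeries_add_two (A := O)
      (PCore.le_upperPSeries_add_two (A := ⊥) bot_le (Or.inl ?_)) (Or.inr hidx)) (Or.inl ?_)
    · rw [Subgroup.relIndex_bot_left]; exact IsPGroup.iff_card.1 hOp
    · rw [Subgroup.relIndex_top_right, Subgroup.index]
      exact IsPGroup.iff_card.1 hqM
  have hc : Subgroup.centralizer (O : Set G) ≤ O := PCore.centralizer_pCore_le hsolv hcore
  -- `P` is maximal
  have hPmax : ∀ L : Subgroup G, (P : Subgroup G) ≤ L → L ≠ ⊤ → L = P := by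
    intro L hPL hL
    have hLc := Transfer.hasNormalPComplement_iff.1 (hsubP L hPL hL)
    haveI : (Cfsg.pResidual p L).Normal := Transfer.pResidual_normal
    have hd : Disjoint (Cfsg.pResidual p L) (O.subgroupOf L) := by
      rw [disjoint_iff]
      exact PCore.eq_bot_of_isPGroup_coprime
        (hOp.comap_subtype.to_le inf_le_right)
        ((PCore.coprime_of_not_dvd_card hLc).coprime_dvd_left (Subgroup.card_dvd_of_le inf_le_left))
    have hbot : Cfsg.pResidual p L = ⊥ := by
      rw [Subgroup.eq_bot_iff_forall]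
      intro x hx
      have hxO : x ∈ O.subgroupOf L := by
        refine hc ?_
        rw [Subgroup.mem_centralizer_iff]
        intro y hy
        have := Subgroup.commute_of_normal_of_disjoint _ _ inferInstance inferInstance hd x
          ⟨y, hPL (hOP hy)⟩ hx hy
        exact (congrArg Subtype.val this).symm
      exact Subgroup.disjoint_def.1 hd hx hxO
    have hLp : IsPGroup p L := by
      intro x
      obtain ⟨k, hk⟩ := Transfer.exists_pow_mem_pResidual (p := p) x
      exact ⟨k, by rwa [hbot, Subgroup.mem_bot] at hk⟩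
    exact P.3 hLp hPL
  -- the complement is abelian modulo `O`
  have hab : ⁅M, M⁆ ≤ O := by
    let Pb := P.mapSurjective hqs
    have hover : ∀ R : Subgroup (G ⧸ O), (Nat.card R).Coprime p →
        (Pb : Subgroup (G ⧸ O)) ⊔ R ≠ ⊤ → R = ⊥ := by
      intro R hRc hRt
      have h1 := hPmax (((Pb : Subgroup (G ⧸ O)) ⊔ R).comap q)
        ((Subgroup.map_le_iff_le_comap.1 (Sylow.coe_mapSurjective hqs P).ge).trans
          (Subgroup.comap_mono le_sup_left))
        (fun h => hRt (by
          rw [← Subgroup.map_comap_eq_self_of_surjective hqs ((Pb : Subgroup (G ⧸ O)) ⊔ R), h,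
            Subgroup.map_top_of_surjective q hqs]))
      have h2 := congrArg (Subgroup.map q) h1
      rw [Subgroup.map_comap_eq_self_of_surjective hqs] at h2
      refine PCore.eq_bot_of_isPGroup_coprime (Pb.isPGroup'.to_le ?_) hRc
      rw [Sylow.coe_mapSurjective]
      exact h2 ▸ le_sup_right
    have hKbne : Kb ≠ ⊥ := by
      intro h0
      refine hno (Transfer.hasNormalPComplement_of_coprime ⊥ (by simp [hp.out.ne_one]) ?_)
      refine IsPGroup.of_equiv ?_ QuotientGroup.quotientBot.symm
      intro x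
      obtain ⟨i, hi⟩ := Transfer.exists_pow_mem_pResidual (p := p) (q x)
      rw [show Cfsg.pResidual p (G ⧸ O) = ⊥ from h0, Subgroup.mem_bot, ← map_pow] at hi
      obtain ⟨j, hj⟩ := hOp ⟨_, (QuotientGroup.eq_one_iff _).1 hi⟩
      exact ⟨i + j, by rw [pow_add, pow_mul]; simpa using congrArg Subtype.val hj⟩
    obtain ⟨r, hr, hrd⟩ : ∃ r, r.Prime ∧ r ∣ Nat.card Kb :=
      ⟨_, Nat.minFac_prime ((Subgroup.one_lt_card_iff_ne_bot Kb).2 hKbne).ne', Nat.minFac_dvd _⟩
    haveI : Fact r.Prime := ⟨hr⟩
    have hcop : (Nat.card (Pb : Subgroup (G ⧸ O))).Coprime (Nat.card Kb) := by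
      obtain ⟨i, hi⟩ := Pb.isPGroup'.exists_card_eq
      rw [hi]; exact ((hp.out.coprime_iff_not_dvd).2 hKb).pow_left i
    have hsolvP : Group.IsSolvable (Pb : Subgroup (G ⧸ O)) := by
      haveI := Pb.isPGroup'.isNilpotent; infer_instance
    obtain ⟨R, hR⟩ := Coprime.exists_invariant_sylow (Pb : Subgroup (G ⧸ O)) Kb
      (le_top.trans (Subgroup.normalizer_eq_top Kb).ge) hcop (Or.inl hsolvP) r
    let R' := (R : Subgroup Kb).map Kb.subtype
    have hRc : (Nat.card R').Coprime p :=
      (PCore.coprime_of_not_dvd_card hKb).coprime_dvd_left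
        (Subgroup.card_dvd_of_le (Subgroup.map_subtype_le _))
    have hR0 : R' ≠ ⊥ := by
      rw [Ne, Subgroup.map_eq_bot_iff_of_injective _ Kb.subtype_injective]
      exact R.ne_bot_of_dvd_card hrd
    have htop : (Pb : Subgroup (G ⧸ O)) ⊔ R' = ⊤ := by
      by_contra h; exact hR0 (hover R' hRc h)
    haveI hRn : R'.Normal := by
      rw [← Subgroup.normalizer_eq_top_iff, ← top_le_iff, ← htop, sup_le_iff]
      exact ⟨hR, Subgroup.le_normalizer⟩
    have hquot : ∀ R₀ : Subgroup (G ⧸ O), R₀.Normal → (Pb : Subgroup (G ⧸ O)) ⊔ R₀ = ⊤ →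
        Kb ≤ R₀ := by
      intro R₀ hn' ht
      haveI := hn'
      refine Transfer.pResidual_le_of_isPGroup_quotient R₀ ?_
      refine IsPGroup.of_surjective Pb.isPGroup'
        ((QuotientGroup.mk' R₀).comp (Pb : Subgroup (G ⧸ O)).subtype) ?_
      intro y
      obtain ⟨y, rfl⟩ := QuotientGroup.mk'_surjective R₀ y
      have hy : y ∈ (Pb : Subgroup (G ⧸ O)) ⊔ R₀ := by rw [ht]; exact Subgroup.mem_top y
      rw [← SetLike.mem_coe, Subgroup.mul_normal] at hy
      obtain ⟨a, ha, b, hb, rfl⟩ := hy
      exact ⟨⟨a, ha⟩, by simp [(QuotientGroup.eq_one_iff b).2 hb]⟩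
    have hKbr : IsPGroup r Kb := (R.isPGroup'.map Kb.subtype).to_le (hquot R' hRn htop)
    haveI := hKbr.isNilpotent
    haveI : Nontrivial Kb := (Subgroup.nontrivial_iff_ne_bot Kb).2 hKbne
    have hcomm : ⁅Kb, Kb⁆ = ⊥ := by
      refine hover _ ((PCore.coprime_of_not_dvd_card hKb).coprime_dvd_left
        (Subgroup.card_dvd_of_le (Kb.commutator_le_self))) fun ht => ?_
      have h1 : Kb ≤ ⁅Kb, Kb⁆ := hquot _ inferInstance ht
      refine (Group.IsSolvable.commutator_lt_top_of_nontrivial Kb).ne ?_
      apply Subgroup.map_injective Kb.subtype_injective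
      rw [Subgroup.map_subtype_commutator, ← MonoidHom.range_eq_map, Subgroup.range_subtype]
      exact le_antisymm Kb.commutator_le_self h1
    have h2 : (⁅M, M⁆).map q = ⊥ := by
      rw [Subgroup.map_commutator, Subgroup.map_comap_eq_self_of_surjective hqs, hcomm]
    rwa [Subgroup.map_eq_bot_iff, QuotientGroup.ker_mk'] at h2
  have htop : Subgroup.normalizer (Z (P : Subgroup G) : Set G) = ⊤ := by
    rw [Subgroup.normalizer_eq_top_iff]
    exact hZ.normal P M hΦ hOM hab hidx hqM hc hPmax
  refine hno (Transfer.hasNormalPComplement_of_surjective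
    (Subgroup.normalizer (Z (P : Subgroup G) : Set G)).subtype (fun x => ⟨⟨x, ?_⟩, rfl⟩) hP)
  rw [htop]; exact Subgroup.mem_top x

/-- The normal complement theorem for a functor. -/
theorem IsZFunctor.hasNormalPComplement (hZ : IsZFunctor p Z) {G : Type u} [Group G] [Finite G]
    (P : Sylow p G)
    (h : Cfsg.HasNormalPComplement p (Subgroup.normalizer (Z (P : Subgroup G) : Set G))) :
    Cfsg.HasNormalPComplement p G :=
  hasNormalPComplement_aux hZ.toOn _ rfl trivial P h

/-- The normal complement theorem for a functor on a class of groups. -/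
theorem IsZFunctorOn.hasNormalPComplement (hZ : IsZFunctorOn p Φ Z) {G : Type u} [Group G]
    [Finite G] (hΦ : Φ G) (P : Sylow p G)
    (h : Cfsg.HasNormalPComplement p (Subgroup.normalizer (Z (P : Subgroup G) : Set G))) :
    Cfsg.HasNormalPComplement p G :=
  hasNormalPComplement_aux hZ _ rfl hΦ P h

theorem isZFunctor_zj (hp2 : p ≠ 2) {e : ℕ} (he : e = 0 ∨ e = p) :
    IsZFunctor.{u} p (fun {G} [Group G] P => PLocal.zj e P) where
  ne_bot P hP h := zj_ne_bot he hP h
  le P := PLocal.zj_le e P
  map f P hf := PLocal.zj_map_of_injOn f P hf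
  normal := by
    intro G _ _ P M _ hOM hab hidx hq hc _
    haveI : (Cfsg.pCore p G).Normal := Cfsg.pCore_normal p G
    refine PLocal.zj_normal hp2 he hc (fun V _ hV => ?_) P
    exact isPStableOn_of_abelian_quotient hp2 _ M PCore.pCore_isPGroup hab hidx hq V
      (PCore.le_pCore inferInstance hV)

/-- Glauberman's normal `p`-complement theorem. -/
theorem hasNormalPComplement_of_zj {G : Type u} [Group G] [Finite G] (hp2 : p ≠ 2) {e : ℕ}
    (he : e = 0 ∨ e = p) (P : Sylow p G)
    (h : Cfsg.HasNormalPComplement p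
      (Subgroup.normalizer (PLocal.zj e (P : Subgroup G) : Set G))) :
    Cfsg.HasNormalPComplement p G :=
  (isZFunctor_zj hp2 he).hasNormalPComplement P h

/-- The abelian version, in the notation of the Prelude. -/
theorem hasNormalPComplement_of_centerThompsonAOf {G : Type u} [Group G] [Finite G] (hp2 : p ≠ 2)
    (P : Sylow p G)
    (h : Cfsg.HasNormalPComplement p
      (Subgroup.normalizer (Cfsg.centerThompsonAOf (P : Subgroup G) : Set G))) :
    Cfsg.HasNormalPComplement p G := by
  rw [PLocal.centerThompsonAOf_eq, ← PLocal.zj_zero] at h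
  exact hasNormalPComplement_of_zj hp2 (Or.inl rfl) P h

theorem zjCriterion : Auto.ZJCriterion.{u} :=
  fun _ _ _ _ _ hp2 P h => hasNormalPComplement_of_zj hp2 (Or.inl rfl) P h

/-- Thompson: a group with a fixed-point-free automorphism of prime order is nilpotent. -/
theorem isNilpotent_of_isFixFree {G : Type u} [Group G] [Finite G] {r : ℕ} (hr : r.Prime)
    {φ : MulAut G} (h : Auto.IsFixFree r φ) : Group.IsNilpotent G :=
  Auto.isNilpotent_of_criterion zjCriterion (Nat.card G) le_rfl hr h

end CfsgLib.Frobenius.ZJComp
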