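import Cfsg.Agent.Lib.Frobenius.Action
import Cfsg.Agent.Lib.Frobenius.Theorem
import Cfsg.Agent.Lib.Spectrum.Solvable

/-!
# Conjugacy of Frobenius complements
-/

set_option autoImplicit false
set_option linter.style.haveILetI false

namespace CfsgLib.Frobenius

open scoped Pointwise

universe u

variable {G : Type u} [Group G] [Finite G]

/-- Two Frobenius complements of one group have nontrivially meeting conjugates. -/
theorem exists_conj_inf_ne_bot {H H₀ : Subgroup G} (hH : Cfsg.IsFrobeniusComplement H)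
    (hH₀ : Cfsg.IsFrobeniusComplement H₀) : ∃ g : G, H ⊓ MulAut.conj g • H₀ ≠ ⊥ := by
  by_contra hno
  simp only [not_exists, not_not] at hno
  have hcover : Cfsg.frobeniusKernel H ∪ Cfsg.frobeniusKernel H₀ = Set.univ := by
    refine Set.eq_univ_of_forall fun x => ?_
    by_cases hx : x = 1
    · exact Or.inl (Or.inl hx)
    by_cases h0 : x ∈ Cfsg.frobeniusKernel H₀
    · exact Or.inr h0
    simp only [Cfsg.frobeniusKernel, Set.mem_setOf_eq, not_or, not_forall, not_not] at h0
    obtain ⟨-, b, hb⟩ := h0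
    refine Or.inl (Or.inr fun a ha => ?_)
    rw [mem_conj_smul_iff] at ha hb
    have hy : a⁻¹ * x * a ∈ H ⊓ MulAut.conj (a⁻¹ * b) • H₀ := by
      refine ⟨ha, mem_conj_smul_iff.2 ?_⟩
      have e : (a⁻¹ * b)⁻¹ * (a⁻¹ * x * a) * (a⁻¹ * b) = b⁻¹ * x * b := by group
      rw [e]; exact hb
    rw [hno, Subgroup.mem_bot] at hy
    apply hx
    calc x = a * (a⁻¹ * x * a) * a⁻¹ := by group
      _ = 1 := by rw [hy]; group
  have hlt : (Cfsg.frobeniusKernel H ∩ Cfsg.frobeniusKernel H₀).ncard ≠ 0 := by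
    have h1 : (1 : G) ∈ Cfsg.frobeniusKernel H ∩ Cfsg.frobeniusKernel H₀ := ⟨Or.inl rfl, Or.inl rfl⟩
    exact Set.ncard_ne_zero_of_mem h1 (Set.toFinite _)
  have h2 := Set.ncard_union_add_ncard_inter (Cfsg.frobeniusKernel H) (Cfsg.frobeniusKernel H₀)
    (Set.toFinite _) (Set.toFinite _)
  rw [hcover, Set.ncard_univ, ncard_frobeniusKernel hH, ncard_frobeniusKernel hH₀] at h2
  have h3 : 2 ≤ Nat.card H := (Subgroup.one_lt_card_iff_ne_bot H).2 hH.1
  have h4 : 2 ≤ Nat.card H₀ := (Subgroup.one_lt_card_iff_ne_bot H₀).2 hH₀.1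
  have h5 := H.index_mul_card
  have h6 := H₀.index_mul_card
  have h7 : 2 * H.index ≤ Nat.card G := by rw [← h5]; nlinarith
  have h8 : 2 * H₀.index ≤ Nat.card G := by rw [← h6]; nlinarith
  omega

omit [Finite G] in
/-- A Frobenius complement is one in every larger proper overgroup of it. -/
theorem isFrobeniusComplement_subgroupOf {D L : Subgroup G} (hD : Cfsg.IsFrobeniusComplement D)
    (hDL : D ≤ L) (hne : D ≠ L) : Cfsg.IsFrobeniusComplement (D.subgroupOf L) := by
  refine ⟨?_, ?_, fun g hg => ?_⟩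
  · intro h
    rw [Subgroup.subgroupOf_eq_bot] at h
    exact hD.1 (h.eq_bot_of_le hDL)
  · intro h
    rw [Subgroup.subgroupOf_eq_top] at h
    exact hne (le_antisymm hDL h)
  · rw [eq_bot_iff]
    rintro x ⟨hx, hx'⟩
    replace hx' := mem_conj_smul_iff.1 hx'
    rw [Subgroup.mem_bot]
    exact Subtype.ext (eq_one_of_mem_of_conj_mem hD hg hx hx')

/-- Of two Frobenius complements, one is conjugate into the other. -/
theorem exists_conj_le_or_ge {H H₀ : Subgroup G} (hH : Cfsg.IsFrobeniusComplement H)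
    (hH₀ : Cfsg.IsFrobeniusComplement H₀) :
    ∃ g : G, MulAut.conj g • H₀ ≤ H ∨ H ≤ MulAut.conj g • H₀ := by
  obtain ⟨g, hg⟩ := exists_conj_inf_ne_bot hH hH₀
  by_contra hno
  simp only [not_exists, not_or] at hno
  let H₁ := MulAut.conj g • H₀
  have hH₁ : Cfsg.IsFrobeniusComplement H₁ := conj_isFrobeniusComplement hH₀ g
  -- every nontrivial intersection with a conjugate of `H₁` is a proper Frobenius complement
  have hno' : ∀ c : G, ¬ MulAut.conj c • H₁ ≤ H ∧ ¬ H ≤ MulAut.conj c • H₁ := fun c => by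
    simp only [H₁, smul_smul, ← map_mul]; exact hno _
  have hmeet : ∀ c : G, H ⊓ MulAut.conj c • H₁ ≠ ⊥ →
      Cfsg.IsFrobeniusComplement (H ⊓ MulAut.conj c • H₁) := by
    intro c hc
    refine ⟨hc, fun h => hH.2.1 (top_le_iff.1 (h ▸ inf_le_left)), fun x hx => ?_⟩
    rw [eq_bot_iff]
    rintro y ⟨⟨hy, hy'⟩, hy2⟩
    replace hy2 := mem_conj_smul_iff.1 hy2
    rw [Subgroup.mem_bot]
    by_cases hxH : x ∈ H
    · exact eq_one_of_mem_of_conj_mem (conj_isFrobeniusComplement hH₁ c)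
        (fun h => hx ⟨hxH, h⟩) hy' hy2.2
    · exact eq_one_of_mem_of_conj_mem hH hxH hy hy2.1
  let D := H ⊓ H₁
  have hg' : D ≠ ⊥ := hg
  have hD : Cfsg.IsFrobeniusComplement D := by
    have := hmeet 1 (by simpa using hg')
    simpa using this
  have hDH : D ≠ H := fun h => (hno' 1).2 (by simpa using (h ▸ inf_le_right : H ≤ H₁))
  have hDH₁ : D ≠ H₁ := fun h => (hno' 1).1 (by simpa using (h ▸ inf_le_left : H₁ ≤ H))
  -- an element in conjugates of both lies in a conjugate of `D`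
  have hsub : Cfsg.frobeniusKernel D ⊆ Cfsg.frobeniusKernel H ∪ Cfsg.frobeniusKernel H₁ := by
    intro x hx
    by_contra hc
    simp only [Set.mem_union, Cfsg.frobeniusKernel, Set.mem_setOf_eq, not_or, not_forall,
      not_not] at hc
    obtain ⟨⟨hx1, a, ha⟩, -, b, hb⟩ := hc
    rw [mem_conj_smul_iff] at ha hb
    let c := a⁻¹ * b
    let D' := H ⊓ MulAut.conj c • H₁
    let y := a⁻¹ * x * a
    have hy : y ∈ D' := by
      refine ⟨ha, mem_conj_smul_iff.2 ?_⟩
      have e : c⁻¹ * y * c = b⁻¹ * x * b := by simp only [c, y]; group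
      rw [e]; exact hb
    have hy1 : y ≠ 1 := fun h => hx1 (by
      calc x = a * y * a⁻¹ := by simp only [y]; group
        _ = 1 := by rw [h]; group)
    have hD'ne : D' ≠ ⊥ := fun h => hy1 (by rwa [h, Subgroup.mem_bot] at hy)
    have hD' : Cfsg.IsFrobeniusComplement D' := hmeet c hD'ne
    have hD'H : D' ≠ H := fun h => (hno' c).2 (h ▸ inf_le_right)
    obtain ⟨⟨h, hh⟩, hmet⟩ := exists_conj_inf_ne_bot
      (isFrobeniusComplement_subgroupOf hD inf_le_left hDH)
      (isFrobeniusComplement_subgroupOf hD' inf_le_left hD'H)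
    obtain ⟨⟨z, hzH⟩, ⟨hz1, hz2⟩, hzne⟩ :=
      (Subgroup.bot_or_exists_ne_one _).resolve_left hmet
    replace hz2 := mem_conj_smul_iff.1 hz2
    -- so `h c` lies in `H₁`
    have hhc : h * c ∈ H₁ := by
      by_contra hout
      refine hzne (Subtype.ext (eq_one_of_mem_of_conj_mem hH₁ hout hz1.2 ?_))
      have h3 : c⁻¹ * (h⁻¹ * z * h) * c ∈ H₁ := mem_conj_smul_iff.1 hz2.2
      have e : (h * c)⁻¹ * z * (h * c) = c⁻¹ * (h⁻¹ * z * h) * c := by group
      rwa [e]
    have hyD : h * y * h⁻¹ ∈ D := by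
      refine ⟨H.mul_mem (H.mul_mem hh hy.1) (H.inv_mem hh), ?_⟩
      have h4 := H₁.mul_mem (H₁.mul_mem hhc (mem_conj_smul_iff.1 hy.2)) (H₁.inv_mem hhc)
      have e : h * c * (c⁻¹ * y * c) * (h * c)⁻¹ = h * y * h⁻¹ := by group
      rwa [e] at h4
    rcases hx with hx | hx
    · exact hx1 hx
    · refine hx (a * h⁻¹) (mem_conj_smul_iff.2 ?_)
      have e : (a * h⁻¹)⁻¹ * x * (a * h⁻¹) = h * y * h⁻¹ := by simp only [y]; group
      rw [e]; exact hyD
  have hcount := (Set.ncard_le_ncard hsub (Set.toFinite _)).trans (Set.ncard_union_le _ _)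
  rw [ncard_frobeniusKernel hD, ncard_frobeniusKernel hH, ncard_frobeniusKernel hH₁] at hcount
  have hrel : ∀ L : Subgroup G, D ≤ L → D ≠ L → 3 * L.index ≤ D.index := by
    intro L hle hne
    rw [← Subgroup.relIndex_mul_index hle]
    refine Nat.mul_le_mul_right _ ?_
    have h1 := card_lt_index (isFrobeniusComplement_subgroupOf hD hle hne)
    have h2 : 2 ≤ Nat.card (D.subgroupOf L) :=
      (Subgroup.one_lt_card_iff_ne_bot _).2 (isFrobeniusComplement_subgroupOf hD hle hne).1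
    show 3 ≤ (D.subgroupOf L).index
    omega
  have h1 := hrel H inf_le_left hDH
  have h2 := hrel H₁ inf_le_right hDH₁
  have h3 := one_lt_index hD
  omega

/-- Of two Frobenius complements the smaller is conjugate into the larger. -/
theorem exists_conj_le_of_card_le {H H₀ : Subgroup G} (hH : Cfsg.IsFrobeniusComplement H)
    (hH₀ : Cfsg.IsFrobeniusComplement H₀) (hle : Nat.card H₀ ≤ Nat.card H) :
    ∃ g : G, MulAut.conj g • H₀ ≤ H := by
  obtain ⟨g, h | h⟩ := exists_conj_le_or_ge hH hH₀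
  · exact ⟨g, h⟩
  · refine ⟨g, (Subgroup.eq_of_le_of_card_ge h ?_).ge⟩
    exact le_of_eq_of_le
      (Nat.card_congr (Subgroup.equivSMul (MulAut.conj g) H₀).toEquiv).symm hle

/-- A Frobenius complement contains no other Frobenius complement properly. -/
theorem eq_of_le_of_complement {H H₀ : Subgroup G} (hH : Cfsg.IsFrobeniusComplement H)
    (hH₀ : Cfsg.IsFrobeniusComplement H₀) (hle : H₀ ≤ H) : H₀ = H := by
  classical
  by_contra hne
  have hF := isFrobeniusComplement_subgroupOf hH₀ hle hne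
  obtain ⟨N, -, hNn, hNc⟩ := exists_normal_kernel hH
  obtain ⟨K₁, -, hK₁n, hK₁c⟩ := exists_normal_kernel hF
  haveI := hNn
  haveI := hK₁n
  have hK₁ : K₁ ≠ ⊥ := by
    intro h
    rw [h, Subgroup.isComplement'_bot_left] at hK₁c
    exact hF.2.1 hK₁c
  -- an element of prime order in the inner complement
  obtain ⟨t, ht, htdvd⟩ := Nat.exists_prime_and_dvd
    ((Subgroup.one_lt_card_iff_ne_bot _).2 hF.1).ne'
  haveI := Fact.mk ht
  obtain ⟨y, hy⟩ := exists_prime_orderOf_dvd_card' t htdvd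
  -- a Sylow subgroup of the kernel normalised by `H`, and its centre
  have hNne : N ≠ ⊥ := by
    intro h
    rw [h, Subgroup.isComplement'_bot_left] at hNc
    exact hH.2.1 hNc
  obtain ⟨r, hr, hrdvd⟩ := Nat.exists_prime_and_dvd
    ((Subgroup.one_lt_card_iff_ne_bot N).2 hNne).ne'
  haveI := Fact.mk hr
  obtain ⟨R, hR⟩ := exists_sylow_normalized hH hNc r
  let R' := (R : Subgroup N).map N.subtype
  haveI : Nontrivial R' := (Subgroup.nontrivial_iff_ne_bot _).2 fun h =>
    R.ne_bot_of_dvd_card hrdvd ((Subgroup.map_eq_bot_iff_of_injective _ N.subtype_injective).1 h)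
  haveI := (show IsPGroup r R' from R.isPGroup'.map _).center_nontrivial
  let Z := (Subgroup.center R').map R'.subtype
  have hZR : Z ≤ R' := Subgroup.map_subtype_le _
  have hZcomm : ∀ a ∈ Z, ∀ b ∈ R', a * b = b * a := by
    rintro _ ⟨a, ha, rfl⟩ b hb
    exact congrArg Subtype.val (Subgroup.mem_center_iff.1 ha ⟨b, hb⟩).symm
  have hHZ : H ≤ Subgroup.normalizer (Z : Set G) := by
    refine hR.trans ?_
    refine Subgroup.le_normalizer_iff.2 fun h hh z hz => ?_
    have hRn := Subgroup.le_normalizer_iff.1 (le_refl (Subgroup.normalizer (R' : Set G)))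
    have hzR : h * z * h⁻¹ ∈ R' := hRn h hh z (hZR hz)
    refine ⟨⟨_, hzR⟩, Subgroup.mem_center_iff.2 fun ⟨b, hb⟩ => Subtype.ext ?_, rfl⟩
    show b * (h * z * h⁻¹) = h * z * h⁻¹ * b
    have hb' : h⁻¹ * b * h ∈ R' := by
      simpa using hRn h⁻¹ (Subgroup.inv_mem _ hh) b hb
    calc b * (h * z * h⁻¹) = h * ((h⁻¹ * b * h) * z) * h⁻¹ := by group
      _ = h * (z * (h⁻¹ * b * h)) * h⁻¹ := by rw [hZcomm z hz _ hb']
      _ = h * z * h⁻¹ * b := by group
  letI : CommGroup Z :=
    { (inferInstance : Group Z) with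
      mul_comm := fun a b => Subtype.ext (hZcomm a a.2 b (hZR b.2)) }
  haveI : Nontrivial Z := (Subgroup.nontrivial_iff_ne_bot _).2 fun h =>
    (Subgroup.nontrivial_iff_ne_bot _).1 inferInstance
      ((Subgroup.map_eq_bot_iff_of_injective _ R'.subtype_injective).1 h)
  have hZN : Z ≤ N := hZR.trans (Subgroup.map_subtype_le _)
  let ρ : H →* MulAut Z := Z.normalizerMonoidHom.comp (Subgroup.inclusion hHZ)
  have hfix : ∀ (h : H) (v : Z), h ≠ 1 → ρ h v = v → v = 1 := by
    intro h v hh hv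
    have h1 : (h : G) * v * (h : G)⁻¹ = v := congrArg Subtype.val hv
    exact Subtype.ext (eq_one_of_commute hH hNc.disjoint (hZN v.2) h.2
      (fun e => hh (Subtype.ext e)) (mul_inv_eq_iff_eq_mul.1 h1))
  obtain ⟨v, hv, ⟨x, -, hx1, hxv⟩ | hyv⟩ := CfsgLib.Spectrum.exists_fixed_of_fpf_pair
    (V := Z) K₁ (y : H) t (by rw [Subgroup.orderOf_coe, hy])
    (fun x hx => hK₁n.conj_mem x hx _)
    (fun x hx hxy => eq_one_of_commute hF hK₁c.disjoint hx y.2
      (fun e => by
        have h0 : y = 1 := Subtype.ext e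
        rw [h0, orderOf_one] at hy
        exact ht.ne_one hy.symm)
      (mul_inv_eq_iff_eq_mul.1 hxy))
    hK₁ ρ ((coprime_card_index hH).coprime_dvd_left K₁.card_subgroup_dvd_card |>.coprime_dvd_right
      (by rw [hNc.index_eq_card]; exact Subgroup.card_dvd_of_le hZN))
  · exact hv (hfix x v hx1 hxv)
  · refine hv (hfix y v (fun e => ?_) hyv)
    have h0 : y = 1 := Subtype.ext e
    rw [h0, orderOf_one] at hy
    exact ht.ne_one hy.symm

/-- All Frobenius complements of a finite group are conjugate. -/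
theorem exists_conj_eq {H H₀ : Subgroup G} (hH : Cfsg.IsFrobeniusComplement H)
    (hH₀ : Cfsg.IsFrobeniusComplement H₀) : ∃ g : G, MulAut.conj g • H₀ = H := by
  obtain ⟨g, h | h⟩ := exists_conj_le_or_ge hH hH₀
  · exact ⟨g, eq_of_le_of_complement hH (conj_isFrobeniusComplement hH₀ g) h⟩
  · exact ⟨g, (eq_of_le_of_complement (conj_isFrobeniusComplement hH₀ g) hH h).symm⟩

end CfsgLib.Frobenius
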