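import Cfsg.Prelude.Def_Solvable
import Cfsg.Agent.Lib.Coprime.Basic
import Cfsg.Agent.Lib.Solvable.Fitting

/-!
# Automorphisms of prime order without nontrivial fixed points
-/

set_option autoImplicit false
set_option linter.style.haveILetI false
open Pointwise

namespace CfsgLib.Frobenius.Auto

universe u

variable {G : Type u} [Group G]

/-- The standing hypothesis: an automorphism whose `r`-th power is trivial, fixing only `1`. -/
def IsFixFree (r : ℕ) (φ : MulAut G) : Prop :=
  φ ^ r = 1 ∧ ∀ x : G, φ x = x → x = 1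

lemma pow_apply_eq_one {r : ℕ} (hr : r.Prime) {φ : MulAut G} (h : IsFixFree r φ) {i : ℕ}
    (hi : ¬ r ∣ i) {x : G} (hx : (φ ^ i) x = x) : x = 1 := by
  refine h.2 x ?_
  have hS : φ ^ i ∈ MulAction.stabilizer (MulAut G) x := hx
  have hS' : φ ^ r ∈ MulAction.stabilizer (MulAut G) x := by rw [h.1]; exact one_mem _
  have hb := Nat.gcd_eq_gcd_ab i r
  rw [(Nat.coprime_comm.1 (hr.coprime_iff_not_dvd.2 hi)).gcd_eq_one] at hb
  have e : φ = (φ ^ i) ^ Nat.gcdA i r * (φ ^ r) ^ Nat.gcdB i r := by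
    rw [← zpow_natCast φ i, ← zpow_natCast φ r, ← zpow_mul, ← zpow_mul, ← zpow_add, ← hb]
    simp
  have h2 : φ ∈ MulAction.stabilizer (MulAut G) x := by
    rw [e]; exact mul_mem (zpow_mem hS _) (zpow_mem hS' _)
  exact h2

/-- The automorphism induced on an invariant subgroup. -/
noncomputable def restrict [Finite G] (φ : MulAut G) (H : Subgroup G) (hH : ∀ x ∈ H, φ x ∈ H) :
    MulAut H :=
  MulEquiv.ofBijective
    (MonoidHom.mk' (fun x : H => (⟨φ x, hH x x.2⟩ : H)) fun a b => Subtype.ext (map_mul φ _ _))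
    (Finite.injective_iff_bijective.1 fun _ _ e =>
      Subtype.ext (φ.injective (congrArg Subtype.val e)))

lemma restrict_apply [Finite G] (φ : MulAut G) (H : Subgroup G) (hH : ∀ x ∈ H, φ x ∈ H) (x : H) :
    ((restrict φ H hH) x : G) = φ x := rfl

lemma isFixFree_restrict [Finite G] {r : ℕ} {φ : MulAut G} (h : IsFixFree r φ) (H : Subgroup G)
    (hH : ∀ x ∈ H, φ x ∈ H) : IsFixFree r (restrict φ H hH) := by
  refine ⟨?_, fun x hx => Subtype.ext (h.2 x (by rw [← restrict_apply φ H hH, hx]))⟩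
  have key : ∀ (i : ℕ) (x : H), (((restrict φ H hH) ^ i) x : G) = (φ ^ i) x := by
    intro i
    induction i with
    | zero => intro x; rfl
    | succ i ih =>
      intro x
      rw [pow_succ, pow_succ, MulAut.mul_apply, MulAut.mul_apply, ih, restrict_apply]
  exact MulEquiv.ext fun x => Subtype.ext (by rw [key, h.1]; rfl)

/-- An invariant subgroup is mapped onto itself. -/
lemma map_eq [Finite G] {φ : MulAut G} {H : Subgroup G} (hH : ∀ x ∈ H, φ x ∈ H) :
    H.map φ.toMonoidHom = H := by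
  refine Subgroup.eq_of_le_of_card_ge (by rintro _ ⟨x, hx, rfl⟩; exact hH x hx) ?_
  rw [Subgroup.card_map_of_injective φ.injective]

/-- The automorphism induced on the quotient by an invariant normal subgroup. -/
noncomputable def onQuotient [Finite G] (φ : MulAut G) (N : Subgroup G) [N.Normal]
    (hN : ∀ x ∈ N, φ x ∈ N) : MulAut (G ⧸ N) :=
  QuotientGroup.congr N N φ (map_eq hN)

lemma onQuotient_mk [Finite G] (φ : MulAut G) (N : Subgroup G) [N.Normal]
    (hN : ∀ x ∈ N, φ x ∈ N) (x : G) :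
    onQuotient φ N hN (QuotientGroup.mk x) = QuotientGroup.mk (φ x) := rfl

lemma isFixFree_onQuotient [Finite G] {r : ℕ} {φ : MulAut G} (h : IsFixFree r φ) (N : Subgroup G)
    [N.Normal] (hN : ∀ x ∈ N, φ x ∈ N) : IsFixFree r (onQuotient φ N hN) := by
  constructor
  · have key : ∀ (i : ℕ) (x : G),
        ((onQuotient φ N hN) ^ i) (QuotientGroup.mk x) = QuotientGroup.mk ((φ ^ i) x) := by
      intro i
      induction i with
      | zero => intro x; rfl
      | succ i ih =>
        intro x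
        rw [pow_succ, pow_succ, MulAut.mul_apply, MulAut.mul_apply, onQuotient_mk, ih]
    refine MulEquiv.ext fun q => ?_
    obtain ⟨x, rfl⟩ := QuotientGroup.mk_surjective q
    rw [key, h.1]; rfl
  · intro q hq
    obtain ⟨x, rfl⟩ := QuotientGroup.mk_surjective q
    rw [onQuotient_mk, QuotientGroup.eq] at hq
    rw [QuotientGroup.eq_one_iff]
    -- `u ↦ (φ u)⁻¹ * u` is onto `N`
    let f : N → N := fun u => ⟨(φ (u : G))⁻¹ * u, N.mul_mem (N.inv_mem (hN _ u.2)) u.2⟩
    have hinj : Function.Injective f := by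
      intro u v huv
      have h1 : (φ (u : G))⁻¹ * u = (φ (v : G))⁻¹ * v := congrArg Subtype.val huv
      refine Subtype.ext (mul_inv_eq_one.1 (h.2 _ ?_))
      rw [map_mul, map_inv]
      calc φ (u : G) * (φ (v : G))⁻¹ = φ (u : G) * ((φ (v : G))⁻¹ * v) * (v : G)⁻¹ := by group
        _ = _ := by rw [← h1]; group
    obtain ⟨u, hu⟩ := (Finite.injective_iff_surjective.1 hinj) ⟨_, hq⟩
    have h1 : (φ (u : G))⁻¹ * u = (φ x)⁻¹ * x := congrArg Subtype.val hu
    have h2 : φ (x * (u : G)⁻¹) = x * (u : G)⁻¹ := by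
      rw [map_mul, map_inv]
      calc φ x * (φ (u : G))⁻¹ = φ x * ((φ (u : G))⁻¹ * u) * (u : G)⁻¹ := by group
        _ = _ := by rw [h1]; group
    rw [mul_inv_eq_one.1 (h.2 _ h2)]
    exact u.2

lemma invariant_of_characteristic {φ : MulAut G} (H : Subgroup G) [hH : H.Characteristic] :
    ∀ x ∈ H, φ x ∈ H := fun x hx =>
  (Subgroup.characteristic_iff_le_comap.1 hH φ) hx

/-- Some Sylow subgroup for each prime is invariant. -/
lemma exists_invariant_sylow [Finite G] {φ : MulAut G} (hφ : ∀ x : G, φ x = x → x = 1)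
    (p : ℕ) [Fact p.Prime] : ∃ P : Sylow p G, ∀ x ∈ (P : Subgroup G), φ x ∈ (P : Subgroup G) := by
  obtain ⟨P₀⟩ : Nonempty (Sylow p G) := inferInstance
  have hcard : Nat.card ((P₀ : Subgroup G).map φ.toMonoidHom) =
      p ^ (Nat.card G).factorization p := by
    rw [Subgroup.card_map_of_injective φ.injective, P₀.card_eq_multiplicity]
  obtain ⟨g, hg⟩ := MulAction.exists_smul_eq G P₀ (Sylow.ofCard _ hcard)
  have hinj : Function.Injective fun w : G => w * (φ w)⁻¹ := by
    intro a b hab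
    refine inv_mul_eq_one.1 (hφ _ ?_)
    simp only at hab
    rw [map_mul, map_inv]
    calc (φ a)⁻¹ * φ b = a⁻¹ * (a * (φ a)⁻¹) * φ b := by group
      _ = _ := by rw [hab]; group
  obtain ⟨w, hw⟩ := (Finite.injective_iff_surjective.1 hinj) g⁻¹
  refine ⟨w⁻¹ • P₀, fun x hx => ?_⟩
  simp only [Sylow.coe_subgroup_smul, CfsgLib.Coprime.mem_conj_smul] at hx ⊢
  have hy : φ (w⁻¹⁻¹ * x * w⁻¹) ∈ ((g • P₀ : Sylow p G) : Subgroup G) := by
    rw [hg]; exact Subgroup.mem_map_of_mem φ.toMonoidHom hx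
  rw [Sylow.coe_subgroup_smul, CfsgLib.Coprime.mem_conj_smul] at hy
  have e : g⁻¹ * φ (w⁻¹⁻¹ * x * w⁻¹) * g = w⁻¹⁻¹ * φ x * w⁻¹ := by
    simp only at hw
    have hg' : g = φ w * w⁻¹ := by
      rw [← inv_inv g, ← hw]; group
    rw [hg', map_mul, map_mul, map_inv, map_inv]
    group
  rwa [e] at hy

/-- A fixed-point-free automorphism of prime order acting compatibly on a group `P` and on an
abelian group `M` of order prime to `|P|` leaves `P` a nontrivial fixed point on `M`. -/
theorem eq_bot_of_inf_centralizer [Finite G] {r : ℕ} (hr : r.Prime) {φ : MulAut G}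
    (h : IsFixFree r φ) (M P : Subgroup G) [IsMulCommutative M]
    (hPM : P ≤ Subgroup.normalizer (M : Set G)) (hMinv : ∀ x ∈ M, φ x ∈ M)
    (hPinv : ∀ x ∈ P, φ x ∈ P) (hcop : (Nat.card P).Coprime (Nat.card M))
    (hC : M ⊓ Subgroup.centralizer (P : Set G) = ⊥) : M = ⊥ := by
  classical
  haveI := Fintype.ofFinite P
  letI : CommGroup M :=
    { (inferInstance : Group M) with mul_comm := fun a b => (IsMulCommutative.is_comm).comm a b }
  have hMi : ∀ (i : ℕ), ∀ x ∈ M, (φ ^ i) x ∈ M := by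
    intro i
    induction i with
    | zero => intro x hx; exact hx
    | succ i ih => intro x hx; rw [pow_succ, MulAut.mul_apply]; exact ih _ (hMinv x hx)
  have hPi : ∀ (i : ℕ), ∀ x ∈ P, (φ ^ i) x ∈ P := by
    intro i
    induction i with
    | zero => intro x hx; exact hx
    | succ i ih => intro x hx; rw [pow_succ, MulAut.mul_apply]; exact ih _ (hPinv x hx)
  let cj : P → M →* M := fun x => MonoidHom.mk'
    (fun v => ⟨(x : G) * v * (x : G)⁻¹, (Subgroup.le_normalizer_iff.1 hPM) x x.2 v v.2⟩)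
    (fun a b => Subtype.ext (by simp [mul_assoc]))
  have cj_mul : ∀ x y v, cj (x * y) v = cj x (cj y v) := fun x y v =>
    Subtype.ext (by simp [cj, mul_assoc])
  let S : M → M := fun v => ∏ x : P, cj x v
  have hS : ∀ v, S v = 1 := by
    intro v
    have hfix : ∀ y : P, cj y (S v) = S v := by
      intro y
      simp only [S, map_prod]
      exact Fintype.prod_equiv (Equiv.mulLeft y) _ _ fun x => (cj_mul y x v).symm
    have h1 : ((S v : M) : G) ∈ M ⊓ Subgroup.centralizer (P : Set G) := by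
      refine ⟨(S v).2, Subgroup.mem_centralizer_iff.2 fun y hy => ?_⟩
      have := congrArg Subtype.val (hfix ⟨y, hy⟩)
      exact mul_inv_eq_iff_eq_mul.1 this
    rw [hC, Subgroup.mem_bot] at h1
    exact Subtype.ext h1
  let F : ℕ → M → M := fun i v => ⟨(φ ^ i) v, hMi i v v.2⟩
  let ψ : M →* M := MonoidHom.mk' (F 1) fun a b => Subtype.ext (by simp [F])
  have hFsucc : ∀ i v, F (i + 1) v = ψ (F i v) := fun i v => Subtype.ext (by
    show (φ ^ (i + 1)) (v : G) = (φ ^ 1) ((φ ^ i) (v : G))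
    rw [pow_succ', pow_one, MulAut.mul_apply])
  have hφ1 : ∀ w : M, ∏ i ∈ Finset.range r, F i w = 1 := by
    intro w
    have hfix : ψ (∏ i ∈ Finset.range r, F i w) = ∏ i ∈ Finset.range r, F i w := by
      rw [map_prod]
      simp only [← hFsucc]
      have h1 := Finset.prod_range_succ (fun i => F i w) r
      have h2 := Finset.prod_range_succ' (fun i => F i w) r
      have h0 : F r w = F 0 w := Subtype.ext (by
        show (φ ^ r) (w : G) = (φ ^ 0) (w : G)
        rw [h.1, pow_zero])
      rw [h1, h0] at h2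
      exact (mul_right_cancel h2).symm
    refine Subtype.ext (h.2 _ ?_)
    have h3 := congrArg Subtype.val hfix
    change (φ ^ 1) _ = _ at h3
    rwa [pow_one] at h3
  rw [Subgroup.eq_bot_iff_forall]
  intro v0 hv0
  let v : M := ⟨v0, hv0⟩
  -- sum over the conjugates of the automorphism
  have hdouble : ∏ x : P, ∏ i ∈ Finset.range r, cj x (F i (cj x⁻¹ v)) = 1 := by
    refine Finset.prod_eq_one fun x _ => ?_
    rw [← map_prod, hφ1, map_one]
  rw [Finset.prod_comm, Finset.prod_eq_single 0] at hdouble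
  rotate_left
  · intro i hi hi0
    have hir : ¬ r ∣ i := fun hd => hi0 (Nat.eq_zero_of_dvd_of_lt hd (Finset.mem_range.1 hi))
    let b : P → P := fun x => x * ⟨(φ ^ i) ((x⁻¹ : P) : G), hPi i _ (x⁻¹ : P).2⟩
    have hb : Function.Bijective b := by
      refine Finite.injective_iff_bijective.1 fun x y hxy => ?_
      have h1 : (x : G) * (φ ^ i) (x : G)⁻¹ = (y : G) * (φ ^ i) (y : G)⁻¹ :=
        congrArg Subtype.val hxy
      rw [map_inv, map_inv] at h1
      refine Subtype.ext (inv_mul_eq_one.1 (pow_apply_eq_one hr h hir ?_))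
      rw [map_mul, map_inv]
      calc ((φ ^ i) (x : G))⁻¹ * (φ ^ i) (y : G) =
            (x : G)⁻¹ * ((x : G) * ((φ ^ i) (x : G))⁻¹) * (φ ^ i) (y : G) := by group
        _ = _ := by rw [h1]; group
    rw [← hS (F i v)]
    refine Fintype.prod_equiv (Equiv.ofBijective b hb) _ _ fun x => Subtype.ext ?_
    simp only [Equiv.ofBijective_apply, cj, b, F, MonoidHom.mk'_apply, Subgroup.coe_mul,
      Subgroup.coe_inv, map_mul, map_inv, inv_inv, mul_inv_rev, mul_assoc]
  · intro h0
    exact absurd (Finset.mem_range.2 hr.pos) h0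
  have hv1 : ∏ x : P, cj x (F 0 (cj x⁻¹ v)) = v ^ Nat.card P := by
    rw [Nat.card_eq_fintype_card, ← Finset.card_univ, ← Finset.prod_const]
    refine Finset.prod_congr rfl fun x _ => Subtype.ext ?_
    simp [cj, F, mul_assoc]
  rw [hv1] at hdouble
  have h3 : (powCoprime hcop.symm) v = (powCoprime hcop.symm) 1 := by
    rw [powCoprime_apply, powCoprime_apply, one_pow, hdouble]
  exact congrArg Subtype.val ((powCoprime hcop.symm).injective h3)

end CfsgLib.Frobenius.Auto
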