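import Cfsg.Agent.Lib.PLocal.StableBasic
import Cfsg.Agent.Lib.Coprime.Commutator

/-!
# Quadratic action in a group that is abelian `p'` by `p` modulo `O_p`

In such a group every element acting quadratically on a normal `p`-subgroup `V` lies in the
preimage of `O_p(G / C(V))`, for odd `p`.
-/

set_option autoImplicit false
set_option linter.style.haveILetI false
open scoped commutatorElement

namespace CfsgLib.Frobenius.QuadAb

universe u

/-- In a ring: if both conjugates of `b` by `1 + n`, where `n * n = 0`, commute with `b`, and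
multiplication by `2` and by the period of `b` are injective, then `n` commutes with `b`. -/
lemma commute_of_conjugates {R : Type*} [Ring R] {n b : R} {m : ℕ} (hm0 : m ≠ 0)
    (hb : b ^ m = 1) (h2 : ∀ x : R, (2 : ℕ) • x = 0 → x = 0) (hm : ∀ x : R, m • x = 0 → x = 0)
    (hc1 : Commute ((1 + n) * b * (1 - n)) b) (hc2 : Commute ((1 - n) * b * (1 + n)) b) :
    Commute n b := by
  let d := n * b - b * n
  have he : (1 + n) * b * (1 - n) - (1 - n) * b * (1 + n) = (2 : ℕ) • d := by
    simp only [d, two_nsmul]; noncomm_ring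
  have hd2 : (2 : ℕ) • (d * b - b * d) = 0 := by
    rw [nsmul_sub, ← smul_mul_assoc, ← mul_smul_comm, ← he, sub_eq_zero]
    exact (hc1.sub_left hc2).eq
  have hdb : d * b = b * d := sub_eq_zero.1 (h2 _ hd2)
  have key : ∀ j : ℕ, n * b ^ (j + 1) = b ^ (j + 1) * n + (j + 1) • (b ^ j * d) := by
    intro j
    induction j with
    | zero => simp [d]
    | succ j ih =>
      have hjd : b ^ j * d * b = b ^ (j + 1) * d := by rw [mul_assoc, hdb, ← mul_assoc, ← pow_succ]
      calc n * b ^ (j + 1 + 1) = n * b ^ (j + 1) * b := by rw [pow_succ b (j + 1), ← mul_assoc]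
        _ = b ^ (j + 1) * (n * b) + (j + 1) • (b ^ (j + 1) * d) := by
            rw [ih, add_mul, mul_assoc, smul_mul_assoc, hjd]
        _ = b ^ (j + 1) * (b * n + d) + (j + 1) • (b ^ (j + 1) * d) := by simp [d]
        _ = b ^ (j + 1 + 1) * n + (j + 1 + 1) • (b ^ (j + 1) * d) := by
            rw [mul_add, ← mul_assoc, ← pow_succ, add_assoc, succ_nsmul' _ (j + 1)]
  obtain ⟨k, rfl⟩ := Nat.exists_eq_succ_of_ne_zero hm0
  have h1 := key k
  rw [hb, mul_one, one_mul] at h1
  have h3 : b ^ k * d = 0 := hm _ (left_eq_add.1 h1)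
  have h4 : d = 0 := by
    have : b * (b ^ k * d) = 0 := by rw [h3, mul_zero]
    rwa [← mul_assoc, ← pow_succ', hb, one_mul] at this
  exact sub_eq_zero.1 h4

variable {G : Type u} [Group G]

/-- Conjugation on an abelian normal subgroup, as endomorphisms. -/
noncomputable def conjEnd (W : Subgroup G) [W.Normal] : G →* AddMonoid.End (Additive W) where
  toFun g := MonoidHom.toAdditive ((MulAut.conjNormal g : MulAut W).toMonoidHom)
  map_one' := by
    ext x
    show (1 : G) * (x.toMul : G) * (1 : G)⁻¹ = (x.toMul : G)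
    simp
  map_mul' a b := by
    ext x
    show a * b * (x.toMul : G) * (a * b)⁻¹ = a * (b * (x.toMul : G) * b⁻¹) * a⁻¹
    group

lemma conjEnd_apply (W : Subgroup G) [W.Normal] (g : G) (v : Additive W) :
    (((conjEnd W g) v).toMul : G) = g * (v.toMul : G) * g⁻¹ := rfl

lemma conjEnd_eq_one_iff (W : Subgroup G) [W.Normal] (g : G) :
    conjEnd W g = 1 ↔ g ∈ Subgroup.centralizer (W : Set G) := by
  rw [Subgroup.mem_centralizer_iff]
  constructor
  · intro h w hw
    have h1 := conjEnd_apply W g (Additive.ofMul (⟨w, hw⟩ : W))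
    rw [h] at h1
    exact (mul_inv_eq_iff_eq_mul.1 h1.symm).symm
  · intro h
    ext v
    show (((conjEnd W g) v).toMul : G) = _
    rw [conjEnd_apply, ← h _ (v.toMul).2]
    simp

variable [Finite G]

/-- An element acting quadratically on an abelian normal `p`-subgroup, `p` odd, centralises, modulo
the kernel, a `p'`-element commuting with its two conjugates modulo the kernel. -/
theorem commutator_mem_centralizer_of_quadratic {p : ℕ} [Fact p.Prime] (hp : p ≠ 2)
    (W : Subgroup G) [W.Normal] [IsMulCommutative W] (hW : IsPGroup p W) {a b : G}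
    (ha : ⁅⁅W, Subgroup.zpowers a⁆, Subgroup.zpowers a⁆ = ⊥) (hb : (orderOf b).Coprime p)
    (h1 : ⁅a * b * a⁻¹, b⁆ ∈ Subgroup.centralizer (W : Set G))
    (h2 : ⁅a⁻¹ * b * a, b⁆ ∈ Subgroup.centralizer (W : Set G)) :
    ⁅a, b⁆ ∈ Subgroup.centralizer (W : Set G) := by
  letI : CommGroup W :=
    { (inferInstance : Group W) with mul_comm := fun x y => (IsMulCommutative.is_comm).comm x y }
  let θ := conjEnd W
  have hcomm : ∀ {x y : G}, ⁅x, y⁆ ∈ Subgroup.centralizer (W : Set G) → Commute (θ x) (θ y) := by
    intro x y hxy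
    show θ x * θ y = θ y * θ x
    have e : x * y = ⁅x, y⁆ * (y * x) := by simp [commutatorElement_def, mul_assoc]
    rw [← map_mul, e, map_mul, (conjEnd_eq_one_iff W _).2 hxy, one_mul, map_mul]
  have hn : (θ a - 1) * (θ a - 1) = 0 := by
    ext v
    have hw : a * (v.toMul : G) * a⁻¹ * (v.toMul : G)⁻¹ ∈ ⁅W, Subgroup.zpowers a⁆ := by
      rw [Subgroup.commutator_comm, ← commutatorElement_def]
      exact Subgroup.commutator_mem_commutator (Subgroup.mem_zpowers a) (v.toMul).2
    have hwa := Subgroup.commutator_mem_commutator hw (Subgroup.mem_zpowers a)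
    rw [ha, Subgroup.mem_bot, commutatorElement_eq_one_iff_mul_comm] at hwa
    have hfix : θ a ((θ a - 1) v) = (θ a - 1) v := by
      refine Subtype.ext ?_
      show a * (((θ a - 1) v).toMul : G) * a⁻¹ = (((θ a - 1) v).toMul : G)
      have e : (((θ a - 1) v).toMul : G) = a * (v.toMul : G) * a⁻¹ * (v.toMul : G)⁻¹ := by
        show ((θ a v - v).toMul : G) = _
        rw [sub_eq_add_neg]; rfl
      rw [e, ← hwa, mul_inv_cancel_right]
    show ((θ a ((θ a - 1) v) - (θ a - 1) v).toMul : G) = 1
    rw [hfix, sub_self]; rfl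
  have hunit : θ a * θ a⁻¹ = 1 := by rw [← map_mul, mul_inv_cancel, map_one]
  have hinv : θ a⁻¹ = 1 - (θ a - 1) := by
    have h3 : (1 - (θ a - 1)) * θ a = 1 := by
      have : (1 - (θ a - 1)) * θ a = 1 - (θ a - 1) * (θ a - 1) := by
        simp only [sub_mul, mul_sub, one_mul, mul_one]
        abel
      rw [this, hn, sub_zero]
    calc θ a⁻¹ = (1 - (θ a - 1)) * θ a * θ a⁻¹ := by rw [h3, one_mul]
      _ = _ := by rw [mul_assoc, hunit, mul_one]
  have htors : ∀ k : ℕ, Nat.Coprime p k → ∀ x : AddMonoid.End (Additive W), k • x = 0 → x = 0 := by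
    intro k hk x hx
    ext v
    obtain ⟨j, hj⟩ := hW.exists_card_eq
    have hcop : (Nat.card W).Coprime k := by rw [hj]; exact hk.pow_left j
    have h3 : k • (x v) = 0 := by
      have := congrArg (fun f : AddMonoid.End (Additive W) => f v) hx
      simpa using this
    show ((x v).toMul : G) = ((1 : W) : G)
    refine congrArg Subtype.val ((powCoprime hcop).injective (a₁ := (x v).toMul) (a₂ := (1 : W)) ?_)
    rw [powCoprime_apply, powCoprime_apply, one_pow]
    exact h3
  have hp2 : Nat.Coprime p 2 := (Nat.coprime_primes Fact.out Nat.prime_two).2 hp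
  have hc : Commute (θ a - 1) (θ b) := by
    refine commute_of_conjugates (m := orderOf b) (orderOf_pos b).ne'
      (by rw [← map_pow, pow_orderOf_eq_one, map_one]) (htors 2 hp2) (htors _ hb.symm) ?_ ?_
    · have := hcomm h1
      rwa [map_mul, map_mul, hinv, show (θ a) = 1 + (θ a - 1) by abel,
        show 1 + (θ a - 1) - 1 = θ a - 1 by abel] at this
    · have := hcomm h2
      rwa [map_mul, map_mul, hinv, show (θ a) = 1 + (θ a - 1) by abel,
        show 1 + (θ a - 1) - 1 = θ a - 1 by abel] at this
  rw [← conjEnd_eq_one_iff]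
  show θ ⁅a, b⁆ = 1
  have hab : θ a * θ b = θ b * θ a := by
    have h3 := hc.eq
    rw [sub_mul, mul_sub, one_mul, mul_one] at h3
    simpa using h3
  have hbb : θ b * θ b⁻¹ = 1 := by rw [← map_mul, mul_inv_cancel, map_one]
  rw [commutatorElement_def, map_mul, map_mul, map_mul, hab, mul_assoc (θ b) (θ a), hunit, mul_one,
    hbb]

/-- The key induction: commutators of a quadratic element with `p'`-elements of `M`. -/
lemma commutator_mem_stabD {p : ℕ} [Fact p.Prime] (hp : p ≠ 2) (O M : Subgroup G) [O.Normal]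
    [M.Normal] (hO : IsPGroup p O) (hab : ⁅M, M⁆ ≤ O) {a b : G} (hbM : b ∈ M)
    (hb : (orderOf b).Coprime p) :
    ∀ (W : Subgroup G) [W.Normal], W ≤ O →
      ⁅⁅W, Subgroup.zpowers a⁆, Subgroup.zpowers a⁆ = ⊥ →
      ⁅a, b⁆ ∈ CfsgLib.PLocal.stabD p W := by
  intro W
  induction W using (wellFounded_lt (α := Subgroup G)).induction with
  | _ W ih =>
    intro _ hWO ha
    by_cases hne : W = ⊥
    · apply CfsgLib.PLocal.centralizer_le_stabD
      subst hne
      rw [Subgroup.mem_centralizer_iff]
      intro x hx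
      rw [Subgroup.coe_bot, Set.mem_singleton_iff] at hx
      simp [hx]
    let W' := ⁅W, O⁆
    have hlt : W' < W := CfsgLib.Coprime.commutator_lt_of_isPGroup (hO.to_le hWO) hO
      (le_top.trans (Subgroup.normalizer_eq_top W).ge) hne
    haveI : W'.Normal := Subgroup.commutator_normal W O
    have h1 := ih W' hlt (hlt.le.trans hWO)
      (le_bot_iff.1 ((Subgroup.commutator_mono (Subgroup.commutator_mono hlt.le le_rfl) le_rfl).trans
        ha.le))
    let f := QuotientGroup.mk' W'
    have hfs : Function.Surjective f := QuotientGroup.mk'_surjective W'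
    let Wb := W.map f
    haveI hWbn : Wb.Normal := Subgroup.Normal.map inferInstance f hfs
    have hcentral : ∀ x ∈ O, f x ∈ Subgroup.centralizer (Wb : Set (G ⧸ W')) := by
      intro x hx
      rw [Subgroup.mem_centralizer_iff]
      rintro _ ⟨w, hw, rfl⟩
      rw [← commutatorElement_eq_one_iff_mul_comm, ← map_commutatorElement]
      exact (QuotientGroup.eq_one_iff _).2 (Subgroup.commutator_mem_commutator hw hx)
    haveI : IsMulCommutative Wb := by
      refine ⟨⟨fun x y => Subtype.ext ?_⟩⟩
      obtain ⟨w, hw, hwe⟩ : ∃ w ∈ W, f w = (y : G ⧸ W') := Subgroup.mem_map.1 y.2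
      have h2 := hcentral w (hWO hw)
      rw [hwe] at h2
      exact Subgroup.mem_centralizer_iff.1 h2 x x.2
    have hWb : IsPGroup p Wb := (hO.to_le hWO).map f
    have haW : ⁅⁅Wb, Subgroup.zpowers (f a)⁆, Subgroup.zpowers (f a)⁆ = ⊥ := by
      simp only [Wb, ← MonoidHom.map_zpowers, ← Subgroup.map_commutator, ha, Subgroup.map_bot]
    have hMc : ∀ {x}, x ∈ M → ⁅f x, f b⁆ ∈ Subgroup.centralizer (Wb : Set (G ⧸ W')) := by
      intro x hx
      rw [← map_commutatorElement]
      exact hcentral _ (hab (Subgroup.commutator_mem_commutator hx hbM))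
    have hkey : f ⁅a, b⁆ ∈ Subgroup.centralizer (Wb : Set (G ⧸ W')) := by
      rw [map_commutatorElement]
      refine commutator_mem_centralizer_of_quadratic hp Wb hWb haW
        (hb.coprime_dvd_left (orderOf_map_dvd f b)) ?_ ?_
      · rw [← map_inv, ← map_mul, ← map_mul]
        exact hMc (Subgroup.Normal.conj_mem inferInstance b hbM a)
      · rw [← map_inv, ← map_mul, ← map_mul]
        have := Subgroup.Normal.conj_mem (H := M) inferInstance b hbM a⁻¹
        rw [inv_inv] at this
        exact hMc this
    -- the elements centralising both factors act on `W` as a `p`-group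
    let T := (Subgroup.centralizer (Wb : Set (G ⧸ W'))).comap f
    haveI := CfsgLib.PLocal.stabD_normal p W'
    let E := CfsgLib.PLocal.stabD p W' ⊓ T
    let q := QuotientGroup.mk' (Subgroup.centralizer (W : Set G))
    haveI : T.Normal := Subgroup.Normal.comap inferInstance f
    haveI : E.Normal := Subgroup.normal_inf_normal _ _
    have hEp : IsPGroup p (E.map q) := by
      rw [isPGroup_iff_pow_pow_eq_one]
      rintro ⟨_, e, he, rfl⟩
      obtain ⟨α, k, hk, hord⟩ :=
        Nat.exists_eq_pow_mul_and_not_dvd (orderOf_pos e).ne' p (Fact.out : p.Prime).ne_one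
      refine ⟨α, Subtype.ext ?_⟩
      show q e ^ p ^ α = 1
      rw [← map_pow, QuotientGroup.mk'_apply, QuotientGroup.eq_one_iff]
      let e' := e ^ p ^ α
      have hcop : (orderOf e').Coprime p := by
        rw [orderOf_pow, hord, Nat.gcd_mul_right_left,
          Nat.mul_div_cancel_left _ (pow_pos (Fact.out : p.Prime).pos α)]
        exact ((Fact.out : p.Prime).coprime_iff_not_dvd.2 hk).symm
      have heE : e' ∈ E := E.pow_mem he _
      -- it centralises `W'`
      have hcW' : e' ∈ Subgroup.centralizer (W' : Set G) := by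
        have h2 : (QuotientGroup.mk e' : G ⧸ Subgroup.centralizer (W' : Set G)) ∈
            Cfsg.pCore p (G ⧸ Subgroup.centralizer (W' : Set G)) := heE.1
        have hord' : orderOf (QuotientGroup.mk e' : G ⧸ Subgroup.centralizer (W' : Set G)) = 1 := by
          obtain ⟨j, hj⟩ := IsPGroup.iff_orderOf.1 CfsgLib.PCore.pCore_isPGroup ⟨_, h2⟩
          rw [← Subgroup.orderOf_coe] at hj
          refine Nat.eq_one_of_dvd_coprimes (hcop.symm.pow_left j).symm
            (orderOf_map_dvd (QuotientGroup.mk' _) e') ?_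
          exact hj.dvd
        exact (QuotientGroup.eq_one_iff e').1 (orderOf_eq_one_iff.1 hord')
      haveI : Group.IsSolvable W := by
        haveI := (hO.to_le hWO).isNilpotent
        infer_instance
      have hcl := CfsgLib.Coprime.le_centralizer_of_trivial_on_series (Subgroup.zpowers e') W
        (le_top.trans (Subgroup.normalizer_eq_top W).ge)
        (by
          obtain ⟨j, hj⟩ := (hO.to_le hWO).exists_card_eq
          rw [Nat.card_zpowers, hj]
          exact hcop.pow_right j)
        (Or.inr inferInstance) W' hlt.le (Subgroup.zpowers_le.2 hcW') ?_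
      · exact hcl (Subgroup.mem_zpowers e')
      · intro x hx w hw
        have hxT : x ∈ T := (Subgroup.zpowers_le.2 heE.2) hx
        have h2 := Subgroup.mem_centralizer_iff.1 (show f x ∈ _ from hxT) (f w)
          (Subgroup.mem_map_of_mem f hw)
        refine (QuotientGroup.eq_one_iff _).1 ?_
        show f (w⁻¹ * (x * w * x⁻¹)) = 1
        rw [map_mul, map_mul, map_mul, map_inv, map_inv, ← h2, mul_inv_cancel_right,
          inv_mul_cancel]
    exact CfsgLib.PCore.le_pCore (Subgroup.Normal.map inferInstance q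
      (QuotientGroup.mk'_surjective _)) hEp (Subgroup.mem_map_of_mem q (⟨h1, hkey⟩ : ⁅a, b⁆ ∈ E))

end CfsgLib.Frobenius.QuadAb
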