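import Cfsg.Agent.Lib.Frobenius.ZJComplement
import Cfsg.Agent.Lib.Techniques.Control

/-!
The normal `p`-complement induction for functors with hypotheses on the sections of a fixed group.
-/

set_option autoImplicit false
set_option linter.style.haveILetI false

namespace CfsgLib.Frobenius.SectionNPC

open Cfsg CfsgLib CfsgLib.Techniques.Fusion

universe u

/-- The reduced configuration. -/
def Reduced {X : Type u} [Group X] (p : ℕ) (T M : Subgroup X) : Prop :=
  M.Normal ∧ pCore p X ≤ M ∧ ⁅M, M⁆ ≤ pCore p X ∧ ((pCore p X).relIndex M).Coprime p ∧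
    (∀ g : X, ∃ k : ℕ, g ^ p ^ k ∈ M) ∧
    Subgroup.centralizer (pCore p X : Set X) ≤ pCore p X ∧ (T ≠ ⊤ → IsCoatom T)

theorem reduced_map {X Y : Type u} [Group X] [Finite X] [Group Y] (e : X ≃* Y) {p : ℕ} [Fact p.Prime]
    {T M : Subgroup X} (h : Reduced p T M) :
    Reduced p (T.map e.toMonoidHom) (M.map e.toMonoidHom) := by
  obtain ⟨h1, h2, h3, h4, h5, h6, h7⟩ := h
  haveI : Finite Y := Finite.of_equiv X e.toEquiv
  have hO : (pCore p X).map e.toMonoidHom = pCore p Y := PCore.map_pCore_equiv e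
  refine ⟨h1.map _ e.surjective, hO ▸ Subgroup.map_mono h2, ?_, ?_, fun g => ?_,
    constrained_of_mulEquiv e h6, fun hne => ?_⟩
  · rw [← Subgroup.map_commutator, ← hO]; exact Subgroup.map_mono h3
  · rwa [← hO, Subgroup.relIndex_map_map_of_injective _ _ e.injective]
  · obtain ⟨k, hk⟩ := h5 (e.symm g)
    exact ⟨k, e.symm g ^ p ^ k, hk, by simp⟩
  · have hT : T ≠ ⊤ := fun h => hne (by rw [h]; exact Subgroup.map_top_of_surjective _ e.surjective)
    exact (e.mapSubgroup.isCoatom_iff T).2 (h7 hT)

/-- The criterion. -/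
theorem hasNormalPComplement_of_reduced {G : Type u} [Group G] [Finite G] {p : ℕ} [Fact p.Prime]
    (W : ∀ (Q : Type u) [Group Q], Subgroup Q) (hW : IsCharPFunctor.{u} p W) (S : Sylow p G)
    (hN : HasNormalPComplement p
      (Subgroup.normalizer ((inducedFunctor (G := G) W (S : Subgroup G) : Subgroup G) : Set G)))
    (hred : ∀ (K R : Subgroup G) [(R.subgroupOf K).Normal] (T : Sylow p (K ⧸ R.subgroupOf K))
      (M : Subgroup (K ⧸ R.subgroupOf K)), Reduced p (T : Subgroup (K ⧸ R.subgroupOf K)) M →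
      (inducedFunctor (G := K ⧸ R.subgroupOf K) W (T : Subgroup (K ⧸ R.subgroupOf K))).Normal) :
    HasNormalPComplement p G := by
  refine ZJComp.IsZFunctorOn.hasNormalPComplement (p := p)
    (Φ := fun X _ => IsSectionOf X G) (Z := fun {X} [Group X] P => inducedFunctor (G := X) W P)
    ⟨?_, ?_, ?_, ?_, ?_, ?_⟩ IsSectionOf.refl S hN
  · exact fun H h => (IsSectionOf.of_subgroup H).trans h
  · exact fun N _ h => (IsSectionOf.of_surjective _ (QuotientGroup.mk'_surjective N)).trans h
  · exact fun P hP hne => inducedFunctor_ne_bot hW hP hne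
  · exact fun P => inducedFunctor_le W P
  · intro X Y _ _ _ f P hP hf
    refine inducedFunctor_map hW f hP (disjoint_iff.2 ((Subgroup.eq_bot_iff_forall _).2 ?_))
    rintro x ⟨hx, hxP⟩
    exact congrArg Subtype.val ((injective_iff_map_eq_one _).1 hf ⟨x, hxP⟩ hx)
  intro X _ _ T M _ hX hOM hab hidx hq hc hmax
  obtain ⟨K, R, hn, ⟨e⟩⟩ := hX.exists_quotient
  haveI := hn
  have hR : Reduced p (T : Subgroup X) M := by
    refine ⟨inferInstance, hOM, hab, hidx, fun g => ?_, hc, fun hne => ⟨hne, fun L hL => ?_⟩⟩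
    · obtain ⟨k, hk⟩ := hq (QuotientGroup.mk' M g)
      exact ⟨k, (QuotientGroup.eq_one_iff _).1 (by simpa using hk)⟩
    · by_contra h
      exact hL.ne (hmax L hL.le h).symm
  have hT : (T : Subgroup X).map e.symm.toMonoidHom =
      ((T.mapSurjective (f := e.symm.toMonoidHom) e.symm.surjective : Sylow p (K ⧸ R.subgroupOf K)) :
        Subgroup (K ⧸ R.subgroupOf K)) := (Sylow.coe_mapSurjective e.symm.surjective T).symm
  have h1 := reduced_map e.symm hR
  rw [hT] at h1
  have h2 := (hred K R _ _ h1).map e.toMonoidHom e.surjective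
  rw [← hT, inducedFunctor_map_injective hW e.symm.toMonoidHom e.symm.injective T.2, Subgroup.map_map,
    show e.toMonoidHom.comp e.symm.toMonoidHom = MonoidHom.id X by ext; simp, Subgroup.map_id] at h2
  exact h2

/-- In the reduced configuration the quotient by `O_p` has a normal `p`-complement. -/
theorem Reduced.hasNormalPComplement_quotient {X : Type u} [Group X] [Finite X] {p : ℕ}
    [Fact p.Prime] [(pCore p X).Normal] {T M : Subgroup X} (h : Reduced p T M) :
    HasNormalPComplement p (X ⧸ pCore p X) := by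
  obtain ⟨h1, -, -, h4, h5, -, -⟩ := h
  haveI : (M.map (QuotientGroup.mk' (pCore p X))).Normal :=
    h1.map _ (QuotientGroup.mk'_surjective _)
  refine Transfer.hasNormalPComplement_of_coprime (M.map (QuotientGroup.mk' (pCore p X))) ?_ ?_
  · rw [PCore.card_map_mk']
    exact (Fact.out : p.Prime).coprime_iff_not_dvd.1 h4.symm
  · intro z
    induction z using QuotientGroup.induction_on with
    | H y =>
      obtain ⟨x, rfl⟩ := QuotientGroup.mk'_surjective _ y
      obtain ⟨k, hk⟩ := h5 x
      refine ⟨k, ?_⟩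
      rw [← QuotientGroup.mk_pow, QuotientGroup.eq_one_iff, ← map_pow]
      exact Subgroup.mem_map_of_mem _ hk

theorem Reduced.isPGroup_quotient {X : Type u} [Group X] {p : ℕ} {T M : Subgroup X} [M.Normal]
    (h : Reduced p T M) : IsPGroup p (X ⧸ M) := by
  intro z
  induction z using QuotientGroup.induction_on with
  | H y =>
    obtain ⟨k, hk⟩ := h.2.2.2.2.1 y
    exact ⟨k, by rw [← QuotientGroup.mk_pow, QuotientGroup.eq_one_iff]; exact hk⟩

end CfsgLib.Frobenius.SectionNPC
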